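import Cfsg.Agent.Lib.Rk3F.R1
import Cfsg.Agent.Lib.Char.FrobeniusKernel
import Cfsg.Agent.Lib.Perm24.Sq1
import Cfsg.Agent.S0042

/-! Rank 3 graphs whose vertex stabilizer is a Frobenius group on the neighbours: basics. -/

set_option autoImplicit false
set_option linter.unusedSectionVars false
set_option linter.style.haveILetI false

namespace H24.Rk

open Finset MulAction
open scoped Classical Pointwise

/-- Distinct and not adjacent. -/
def NA {X : Type*} (adj : X → X → Prop) (x y : X) : Prop := x ≠ y ∧ ¬ adj x y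

/-- The configuration. -/
structure R3 (G : Type*) {X : Type*} [Group G] [MulAction G X] (adj : X → X → Prop) : Prop where
  inv : ∀ (g : G) x y, adj (g • x) (g • y) ↔ adj x y
  symm : ∀ x y, adj x y → adj y x
  irr : ∀ x, ¬ adj x x
  t1 : ∀ x y x' y', adj x y → adj x' y' → ∃ g : G, g • x = x' ∧ g • y = y'
  t2 : ∀ x y x' y', NA adj x y → NA adj x' y' → ∃ g : G, g • x = x' ∧ g • y = y'
  frob : ∀ (g : G) x y y', adj x y → adj x y' → y ≠ y' → g • x = x → g • y = y → g • y' = y' → g = 1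
  ex : ∃ (g : G) (x y : X), adj x y ∧ g ≠ 1 ∧ g • x = x ∧ g • y = y
  c1 : ∃ x y z, adj x y ∧ adj y z ∧ NA adj x z
  c2 : ∃ x y z, NA adj x y ∧ NA adj x z ∧ adj y z

/-- The Frobenius kernel of the stabilizer of `x`. -/
def KK (G : Type*) {X : Type*} [Group G] [MulAction G X] (adj : X → X → Prop) (x : X) :
    Subgroup G := Subgroup.closure {g | g • x = x ∧ ∀ y, adj x y → g • y ≠ y}

/-- Two point stabilizer. -/
abbrev S2 (G : Type*) {X : Type*} [Group G] [MulAction G X] (x y : X) : Subgroup G :=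
  stabilizer G x ⊓ stabilizer G y

variable {G X : Type*} [Group G] [Fintype G] [Fintype X] [MulAction G X] {adj : X → X → Prop}

theorem card_sub (U : Subgroup G) : Nat.card U = #{g | g ∈ U} := by
  rw [Nat.card_eq_fintype_card, Fintype.card_subtype]

theorem card_orb (U : Subgroup G) (x : X) (S : Finset X) (h : ∀ w, w ∈ S ↔ ∃ g ∈ U, g • x = w) :
    S.card * Nat.card ↥(U ⊓ stabilizer G x) = Nat.card U := by
  rw [← Sq.ncard_orbit U x, ← Set.ncard_coe_finset]
  congr 2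
  ext w
  rw [Sq.mem_orbit, mem_coe, h]

theorem card_conj {U V : Subgroup G} (g : G) (h : ∀ w, w ∈ U ↔ g * w * g⁻¹ ∈ V) :
    Nat.card U = Nat.card V := by
  rw [card_sub, card_sub]
  exact card_bijective (MulAut.conj g) (MulAut.conj g).bijective fun w => by simpa using h w

theorem card_smul {P Q : X → Prop} [DecidablePred P] [DecidablePred Q] (g : G) (h : ∀ w, P w ↔ Q (g • w)) :
    #{w | P w} = #{w | Q w} :=
  card_bijective (g • ·) (MulAction.bijective g) fun w => by simpa using h w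

theorem conj_fix {g w : G} {x : X} : (g * w * g⁻¹) • g • x = g • x ↔ w • x = x := by
  rw [mul_smul, mul_smul, inv_smul_smul, smul_left_cancel_iff]

namespace R3

variable (h : R3 G adj)
include h

theorem na_inv (g : G) (x y : X) : NA adj (g • x) (g • y) ↔ NA adj x y := by
  rw [NA, NA, h.inv, Ne, smul_left_cancel_iff]

theorem na_symm {x y : X} (hxy : NA adj x y) : NA adj y x :=
  ⟨hxy.1.symm, fun e => hxy.2 (h.symm _ _ e)⟩

theorem ne {x y : X} (hxy : adj x y) : x ≠ y := fun e => h.irr y (e ▸ hxy)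

theorem tr (x y : X) : ∃ g : G, g • x = y := by
  obtain ⟨a, b, c, h1, -, h2⟩ := h.c1
  have : ∀ x, ∃ g : G, g • a = x := fun x => by
    by_cases e : x = a
    · exact ⟨1, by rw [one_smul, e]⟩
    by_cases e' : adj x a
    · exact (h.t1 a b x a h1 e').imp fun _ => And.left
    · exact (h.t2 a c x a h2 ⟨e, e'⟩).imp fun _ => And.left
  obtain ⟨g, rfl⟩ := this x
  obtain ⟨g', rfl⟩ := this y
  exact ⟨g' * g⁻¹, by rw [mul_smul, inv_smul_smul]⟩

theorem ex_adj (x : X) : ∃ y, adj x y := by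
  obtain ⟨a, b, c, h1, -⟩ := h.c1
  obtain ⟨g, rfl⟩ := h.tr a x
  exact ⟨_, (h.inv g _ _).2 h1⟩

theorem ex_na (x : X) : ∃ y, NA adj x y := by
  obtain ⟨a, b, c, -, -, h1⟩ := h.c1
  obtain ⟨g, rfl⟩ := h.tr a x
  exact ⟨_, (h.na_inv g _ _).2 h1⟩

theorem ex_c2 {x y : X} (hxy : NA adj x y) : ∃ z, NA adj x z ∧ adj y z := by
  obtain ⟨a, b, c, h1, h2, h3⟩ := h.c2
  obtain ⟨g, rfl, rfl⟩ := h.t2 a b x y h1 hxy
  exact ⟨_, (h.na_inv g _ _).2 h2, (h.inv g _ _).2 h3⟩

theorem ex_E {x y : X} (hxy : adj x y) : ∃ g : G, g ≠ 1 ∧ g • x = x ∧ g • y = y := by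
  obtain ⟨g, a, b, h1, h2, h3, h4⟩ := h.ex
  obtain ⟨w, rfl, rfl⟩ := h.t1 a b x y h1 hxy
  exact ⟨w * g * w⁻¹, fun e => h2 (by simpa using e), conj_fix.2 h3, conj_fix.2 h4⟩

theorem exists_K (x : X) : ∃ K : Subgroup G,
    (∀ g, g ∈ K ↔ g • x = x ∧ (g = 1 ∨ ∀ y, adj x y → g • y ≠ y)) ∧ Group.IsNilpotent K ∧
      ∀ y y', adj x y → adj x y' → ∃ g ∈ K, g • y = y' := by
  obtain ⟨y, hy⟩ := h.ex_adj x
  have hE : Cfsg.IsFrobeniusComplement ((stabilizer G y).subgroupOf (stabilizer G x)) := by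
    refine ⟨fun e => ?_, fun e => ?_, fun g hg => eq_bot_iff.2 fun t ht => ?_⟩
    · obtain ⟨g, h1, h2, h3⟩ := h.ex_E hy
      have : (⟨g, h2⟩ : stabilizer G x) ∈ (stabilizer G y).subgroupOf (stabilizer G x) := h3
      rw [e] at this
      exact h1 (congrArg Subtype.val this)
    · obtain ⟨a, b, c, h1, h2, h3⟩ := h.c1
      obtain ⟨g, rfl, rfl⟩ := h.t1 b a x y (h.symm _ _ h1) hy
      obtain ⟨w, h4, h5⟩ := h.t1 _ _ _ _ hy ((h.inv g _ _).2 h2)
      have : (⟨w, h4⟩ : stabilizer G (g • b)) ∈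
        (stabilizer G (g • a)).subgroupOf (stabilizer G (g • b)) := e ▸ Subgroup.mem_top _
      exact ((h.na_inv g _ _).2 h3).1 ((show w • g • a = g • a from this).symm.trans h5)
    · have h1 : ((g : G)⁻¹ * t * g) • y = y := by
        have := Subgroup.mem_pointwise_smul_iff_inv_smul_mem.1 ht.2
        simpa [Subgroup.mem_subgroupOf] using this
      refine Subtype.ext (h.frob t x y ((g : G) • y) hy (by
        rw [← h.inv (g : G), show (g : G) • x = x from g.2] at hy; exact hy)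
        (fun e => hg e.symm) t.2 ht.1 ?_)
      rw [mul_smul, mul_smul, inv_smul_eq_iff] at h1
      exact h1
  obtain ⟨N, h1, -, h2⟩ := Cfsg.Agent.S0042.result _ hE
  obtain ⟨N', h3, -, h4⟩ := H8.frobenius_kernel hE
  obtain rfl : N = N' := SetLike.coe_injective (h1.trans h3.symm)
  have tr : ∀ y', adj x y' → ∃ g ∈ N, (g : G) • y = y' := fun y' hy' => by
    obtain ⟨w, h5, h6⟩ := h.t1 x y x y' hy hy'
    obtain ⟨⟨n, e⟩, he⟩ := h4.2 ⟨w, h5⟩
    refine ⟨n, n.2, ?_⟩
    have : ((n : stabilizer G x) : G) * ((e : stabilizer G x) : G) = w := congrArg Subtype.val he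
    rw [← h6, ← this, mul_smul, show ((e : stabilizer G x) : G) • y = y from e.2]
  refine ⟨N.map (stabilizer G x).subtype, fun g => ?_,
    (Group.isNilpotent_congr (N.equivMapOfInjective _ (stabilizer G x).subtype_injective)).1 h2,
    fun y1 y2 hy1 hy2 => ?_⟩
  · constructor
    · rintro ⟨g, hg, rfl⟩
      refine ⟨g.2, ?_⟩
      rcases H8.mem_frobeniusKernel.1 (h1 ▸ hg) with rfl | h5
      · exact Or.inl rfl
      · refine Or.inr fun y' hy' e => ?_
        obtain ⟨w, -, rfl⟩ := tr y' hy'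
        refine h5 w (?_ : ((w : G)⁻¹ * g * w) • y = y)
        rw [mul_smul, mul_smul, inv_smul_eq_iff]
        exact e
    · rintro ⟨h5, h6⟩
      refine ⟨⟨g, h5⟩, ?_, rfl⟩
      rw [h1]
      refine H8.mem_frobeniusKernel.2 (h6.imp Subtype.ext fun h6 w e => ?_)
      have e' : ((w : G)⁻¹ * g * w) • y = y := e
      rw [mul_smul, mul_smul, inv_smul_eq_iff] at e'
      exact h6 _ (by rw [← h.inv (w : G), show (w : G) • x = x from w.2] at hy; exact hy) e'
  · obtain ⟨g1, h5, rfl⟩ := tr y1 hy1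
    obtain ⟨g2, h6, rfl⟩ := tr y2 hy2
    exact ⟨_, ⟨g2 * g1⁻¹, mul_mem h6 (inv_mem h5), rfl⟩, by simp [mul_smul]⟩

theorem KK_spec (x : X) :
    (∀ g, g ∈ KK G adj x ↔ g • x = x ∧ (g = 1 ∨ ∀ y, adj x y → g • y ≠ y)) ∧
      Group.IsNilpotent (KK G adj x) ∧ ∀ y y', adj x y → adj x y' → ∃ g ∈ KK G adj x, g • y = y' := by
  obtain ⟨K, hK⟩ := h.exists_K x
  have : KK G adj x = K := le_antisymm ((Subgroup.closure_le _).2 fun g hg => (hK.1 g).2
    ⟨hg.1, Or.inr hg.2⟩) fun g hg => by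
      obtain ⟨h1, rfl | h2⟩ := (hK.1 g).1 hg
      exacts [one_mem _, Subgroup.subset_closure ⟨h1, h2⟩]
  rwa [this]

theorem K_fix {x : X} {g : G} (hg : g ∈ KK G adj x) : g • x = x := (((h.KK_spec x).1 g).1 hg).1

theorem K_semi {x y : X} {g : G} (hg : g ∈ KK G adj x) (hxy : adj x y) (e : g • y = y) : g = 1 :=
  (((h.KK_spec x).1 g).1 hg).2.resolve_right fun h1 => h1 y hxy e

theorem fix_of_not_mem {x : X} {g : G} (hx : g • x = x) (hg : g ∉ KK G adj x) :
    ∃ y, adj x y ∧ g • y = y := by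
  by_contra hc
  push Not at hc
  exact hg (((h.KK_spec x).1 g).2 ⟨hx, Or.inr hc⟩)

theorem K_conj (w : G) {x : X} {g : G} : g ∈ KK G adj x ↔ w * g * w⁻¹ ∈ KK G adj (w • x) := by
  have : ∀ (w : G) {x : X} {g : G}, g ∈ KK G adj x → w * g * w⁻¹ ∈ KK G adj (w • x) := by
    intro w x g hg
    by_contra hc
    obtain ⟨y, h1, h2⟩ := h.fix_of_not_mem (conj_fix.2 (h.K_fix hg)) hc
    obtain ⟨y, rfl⟩ := MulAction.surjective w y
    exact hc (by rw [h.K_semi hg ((h.inv w _ _).1 h1) (conj_fix.1 h2)]; simp)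
  exact ⟨this w, fun h1 => by simpa [mul_assoc] using this w⁻¹ h1⟩

theorem K_norm {x : X} {w g : G} (hw : w • x = x) (hg : g ∈ KK G adj x) :
    w * g * w⁻¹ ∈ KK G adj x := hw ▸ (h.K_conj w).1 hg

theorem adj_smul {x y : X} {g : G} (hg : g • x = x) (hxy : adj x y) : adj x (g • y) := by
  rw [← h.inv g, hg] at hxy; exact hxy

theorem na_smul {x y : X} {g : G} (hg : g • x = x) (hxy : NA adj x y) : NA adj x (g • y) := by
  rw [← h.na_inv g, hg] at hxy; exact hxy

theorem F1 {x : X} {g y : G} (hx : g • x = x) (hg : g ∉ KK G adj x) (hy : y ∈ KK G adj x)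
    (e : g * y * g⁻¹ = y) : y = 1 := by
  obtain ⟨z, h1, h2⟩ := h.fix_of_not_mem hx hg
  by_contra hc
  refine hg ?_
  rw [h.frob g x z (y • z) h1 (h.adj_smul (h.K_fix hy) h1) (fun e => hc (h.K_semi hy h1 e.symm))
    hx h2 (by rw [← mul_smul, mul_inv_eq_iff_eq_mul.1 e, mul_smul, h2])]
  exact one_mem _

end R3

/-- The configuration with its parameters. -/
structure Nm (G : Type*) {X : Type*} [Group G] [Fintype X] [MulAction G X] (adj : X → X → Prop)
    (k l lam mu e d t : ℕ) : Prop extends R3 G adj where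
  hk : ∀ x, #{y | adj x y} = k
  hl : ∀ x, #{y | NA adj x y} = l
  hlam : ∀ x y, adj x y → #{z | adj x z ∧ adj y z} = lam
  hmu : ∀ x y, NA adj x y → #{z | adj x z ∧ adj y z} = mu
  he : ∀ x y, adj x y → Nat.card (S2 G x y) = e
  hd : ∀ x y, NA adj x y → Nat.card (S2 G x y) = d
  ht : ∀ x y, NA adj x y → Nat.card ↥(KK G adj x ⊓ stabilizer G y) = t

theorem R3.exists_Nm (h : R3 G adj) : ∃ k l lam mu e d t, Nm G adj k l lam mu e d t := by
  obtain ⟨a, b, c, h1, -, h2⟩ := h.c1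
  have s2 : ∀ (g : G) (x y : X), Nat.card (S2 G (g • x) (g • y)) = Nat.card (S2 G x y) :=
    fun g x y => (card_conj g fun w => and_congr conj_fix.symm conj_fix.symm).symm
  have cn : ∀ (g : G) (x y : X), #{z | adj (g • x) z ∧ adj (g • y) z} = #{z | adj x z ∧ adj y z} :=
    fun g x y => (card_smul g fun w => by rw [h.inv, h.inv]).symm
  refine ⟨#{y | adj a y}, #{y | NA adj a y}, #{z | adj a z ∧ adj b z}, #{z | adj a z ∧ adj c z},
    Nat.card (S2 G a b), Nat.card (S2 G a c), Nat.card ↥(KK G adj a ⊓ stabilizer G c), h,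
    fun x => ?_, fun x => ?_, fun x y hxy => ?_, fun x y hxy => ?_,
    fun x y hxy => ?_, fun x y hxy => ?_, fun x y hxy => ?_⟩
  · obtain ⟨g, rfl⟩ := h.tr a x
    exact (card_smul g fun w => by rw [h.inv]).symm
  · obtain ⟨g, rfl⟩ := h.tr a x
    exact (card_smul g fun w => by rw [h.na_inv]).symm
  · obtain ⟨g, rfl, rfl⟩ := h.t1 a b x y h1 hxy
    exact cn g a b
  · obtain ⟨g, rfl, rfl⟩ := h.t2 a c x y h2 hxy
    exact cn g a c
  · obtain ⟨g, rfl, rfl⟩ := h.t1 a b x y h1 hxy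
    exact s2 g a b
  · obtain ⟨g, rfl, rfl⟩ := h.t2 a c x y h2 hxy
    exact s2 g a c
  · obtain ⟨g, rfl, rfl⟩ := h.t2 a c x y h2 hxy
    exact (card_conj g fun w => and_congr (h.K_conj g) conj_fix.symm).symm

end H24.Rk
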