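import Cfsg.Agent.Lib.Rk3F.R2

/-! Numerical relations. -/

set_option autoImplicit false
set_option linter.unusedSectionVars false
set_option linter.style.haveILetI false

namespace H24.Rk

open Finset MulAction
open scoped Classical Pointwise

variable {G X : Type*} [Group G] [Fintype G] [Fintype X] [MulAction G X] {adj : X → X → Prop}
  {k l lam mu e d t : ℕ}

theorem card_dvd_pts (U : Subgroup G) (S : Finset X) (hi : ∀ g ∈ U, ∀ y ∈ S, g • y ∈ S)
    (hs : ∀ g ∈ U, ∀ y ∈ S, g • y = y → g = 1) : Nat.card U ∣ S.card :=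
  card_dvd_of_semi S (fun g y hy => hi g g.2 y hy) fun g y hy e => Subtype.ext (hs g g.2 y hy e)

theorem int_eig {p q k l lam mu : ℕ} {ρ : ℝ} (hl : k < l) (hm : mu < k) (hpq : p + q = k + l)
    (hρ : ρ ^ 2 = ((lam : ℝ) - mu) ^ 2 + 4 * (k - mu))
    (h : ((p : ℝ) + q) * (lam - mu) + (p - q) * ρ + 2 * k = 0) :
    ∃ r σ : ℕ, r + mu = lam + σ ∧ r * σ + mu = k := by
  have h0 : (p : ℤ) - q ≠ 0 := fun e => by
    have e' : (p : ℝ) - q = 0 := by exact_mod_cast e
    rw [e', zero_mul, add_zero] at h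
    have h1 : ((p : ℤ) + q) * (lam - mu) + 2 * k = 0 := by exact_mod_cast h
    have h2 : (p : ℤ) + q = k + l := by exact_mod_cast hpq
    rw [h2] at h1
    rcases le_or_gt (mu : ℤ) lam with h3 | h3 <;> nlinarith
  have h1 : ((p : ℤ) - q) ^ 2 * (((lam : ℤ) - mu) ^ 2 + 4 * (k - mu)) =
      (((p : ℤ) + q) * (lam - mu) + 2 * k) ^ 2 := by
    have : ((p : ℝ) - q) ^ 2 * (((lam : ℝ) - mu) ^ 2 + 4 * (k - mu)) =
        (((p : ℝ) + q) * (lam - mu) + 2 * k) ^ 2 := by
      rw [← hρ, show ((p : ℝ) + q) * (lam - mu) + 2 * k = -((p - q) * ρ) by linarith]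
      ring
    exact_mod_cast this
  obtain ⟨c, hc⟩ := (Int.pow_dvd_pow_iff two_ne_zero).1 ⟨_, h1.symm⟩
  rw [hc, mul_pow, mul_right_inj' (pow_ne_zero 2 h0), ← sq_abs c] at h1
  have h2 := abs_nonneg c
  generalize |c| = a at h1 h2
  have h3 : Even (a - (lam - mu)) := by
    have : Even ((a - (lam - mu)) * (a - (lam - mu))) :=
      ⟨2 * (k - mu) - (lam - mu) * (a - (lam - mu)), by linear_combination -h1⟩
    simpa [Int.even_mul] using this
  obtain ⟨s, hs⟩ := h3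
  have hm' : (mu : ℤ) < k := by exact_mod_cast hm
  have h4 : s * (s + (lam - mu)) = k - mu := by
    have : a = s + s + (lam - mu) := by linarith
    rw [this] at h1
    linarith
  have h5 : 0 < s := by nlinarith
  have h6 : 0 < s + (lam - mu) := by nlinarith
  refine ⟨(s + (lam - mu)).toNat, s.toNat, by omega, ?_⟩
  zify
  rw [Int.toNat_of_nonneg h5.le, Int.toNat_of_nonneg h6.le]
  linarith

namespace Nm

variable (h : Nm G adj k l lam mu e d t)
include h

theorem card_K (x : X) : Nat.card (KK G adj x) = k := by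
  obtain ⟨y, hy⟩ := h.ex_adj x
  have h1 := card_orb (KK G adj x) y {z | adj x z} fun w => by
    rw [mem_filter_univ]
    exact ⟨(h.KK_spec x).2.2 y w hy, by
      rintro ⟨g, hg, rfl⟩; exact h.adj_smul (h.K_fix hg) hy⟩
  rw [show KK G adj x ⊓ stabilizer G y = ⊥ from
    eq_bot_iff.2 fun g hg => h.K_semi hg.1 hy hg.2, h.hk] at h1
  simpa using h1.symm

theorem card_H (x : X) : Nat.card (stabilizer G x) = k * e := by
  obtain ⟨y, hy⟩ := h.ex_adj x
  rw [← card_orb (stabilizer G x) y {z | adj x z} fun w => by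
    rw [mem_filter_univ]
    exact ⟨h.t1 x y x w hy, by rintro ⟨g, hg, rfl⟩; exact h.adj_smul hg hy⟩, h.hk, h.he x y hy]

theorem card_H' (x : X) : Nat.card (stabilizer G x) = l * d := by
  obtain ⟨y, hy⟩ := h.ex_na x
  rw [← card_orb (stabilizer G x) y {z | NA adj x z} fun w => by
    rw [mem_filter_univ]
    exact ⟨h.t2 x y x w hy, by rintro ⟨g, hg, rfl⟩; exact h.na_smul hg hy⟩, h.hl, h.hd x y hy]

theorem pt : Nonempty X := h.c1.elim fun a _ => ⟨a⟩

theorem ke : k * e = l * d := h.pt.elim fun x => (h.card_H x).symm.trans (h.card_H' x)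

theorem sum_split (x : X) (f : X → ℕ) :
    ∑ y, f y = f x + ∑ y ∈ {y | adj x y}, f y + ∑ y ∈ {y | NA adj x y}, f y := by
  rw [← sum_filter_add_sum_filter_not univ (NA adj x), add_comm,
    ← sum_filter_add_sum_filter_not (filter _ _) (adj x), add_comm (∑ _ ∈ _, _), filter_filter,
    filter_filter]
  congr 2
  · rw [sum_eq_single x]
    · intro y hy hyx
      exact absurd ⟨hyx.symm, (mem_filter.1 hy).2.2⟩ (mem_filter.1 hy).2.1
    · simp [NA, h.irr]
  · exact sum_congr (filter_congr fun y _ => ⟨And.right, fun e => ⟨fun e' => e'.2 e, e⟩⟩)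
      fun _ _ => rfl

theorem sum_const' (x : X) (f : X → ℕ) {a b : ℕ} (h1 : ∀ y, adj x y → f y = a)
    (h2 : ∀ y, NA adj x y → f y = b) : ∑ y, f y = f x + k * a + l * b := by
  rw [h.sum_split x, sum_congr rfl fun y hy => h1 y (mem_filter.1 hy).2,
    sum_congr rfl fun y hy => h2 y (mem_filter.1 hy).2, sum_const, sum_const, h.hk, h.hl]
  rfl

theorem card_X : Fintype.card X = 1 + k + l := h.pt.elim fun x => by
  simpa using h.sum_const' x (fun _ => 1) (fun _ _ => rfl) fun _ _ => rfl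

theorem card_G : Nat.card G = (1 + k + l) * (k * e) := h.pt.elim fun x => by
  have := card_orb (⊤ : Subgroup G) x univ fun w => by simpa using h.tr x w
  rw [top_inf_eq, h.card_H, card_univ, h.card_X, Subgroup.card_top] at this
  exact this.symm

theorem card_split (x : X) (P : X → Prop) [DecidablePred P] :
    #{y | P y} = (if P x then 1 else 0) + #{y | adj x y ∧ P y} + #{y | NA adj x y ∧ P y} := by
  rw [card_filter, h.sum_split x, ← card_filter, ← card_filter, filter_filter, filter_filter]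

theorem split_adj {x y : X} (hxy : adj x y) : 1 + lam + #{z | NA adj x z ∧ adj y z} = k := by
  rw [← h.hk y, h.card_split x (adj y), if_pos (h.symm _ _ hxy), h.hlam x y hxy]

theorem split_na {x y : X} (hxy : NA adj x y) : mu + #{z | NA adj x z ∧ adj y z} = k := by
  rw [← h.hk y, h.card_split x (adj y), if_neg (h.na_symm hxy).2, h.hmu x y hxy, zero_add]

theorem mu_pos : 0 < mu := by
  obtain ⟨a, b, c, h1, h2, h3⟩ := h.c1
  exact h.hmu a c h3 ▸ card_pos.2 ⟨b, by simpa using ⟨h1, h.symm _ _ h2⟩⟩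

theorem mu_lt : mu < k := by
  obtain ⟨a, b, c, h1, h2, h3⟩ := h.c2
  have : 0 < #{z | NA adj a z ∧ adj b z} := card_pos.2 ⟨c, by simpa using ⟨h2, h3⟩⟩
  have := h.split_na h1
  omega

theorem two_le_e : 2 ≤ e := by
  obtain ⟨g, a, b, h1, h2, h3, h4⟩ := h.ex
  rw [← h.he a b h1]
  exact Finite.one_lt_card_iff_nontrivial.2 ⟨⟨⟨g, h3, h4⟩, 1, fun e => h2 (congrArg Subtype.val e)⟩⟩

theorem d_pos : 0 < d := by
  obtain ⟨a, b, c, -, -, h3⟩ := h.c1
  exact h.hd a c h3 ▸ Nat.card_pos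

theorem e_lam : e ∣ lam := by
  obtain ⟨a, b, c, h1, -⟩ := h.c1
  rw [← h.he a b h1, ← h.hlam a b h1]
  refine card_dvd_pts _ _ (fun g hg y hy => ?_) fun g hg y hy e => ?_ <;> rw [mem_filter_univ] at *
  · exact ⟨h.adj_smul hg.1 hy.1, h.adj_smul hg.2 hy.2⟩
  · exact h.frob g a b y h1 hy.1 (h.ne hy.2) hg.1 hg.2 e

theorem d_mu : d ∣ mu := by
  obtain ⟨a, b, c, -, -, h1⟩ := h.c1
  rw [← h.hd a c h1, ← h.hmu a c h1]
  refine card_dvd_pts _ _ (fun g hg y hy => ?_) fun g hg y hy e => ?_ <;> rw [mem_filter_univ] at *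
  · exact ⟨h.adj_smul hg.1 hy.1, h.adj_smul hg.2 hy.2⟩
  · exact h.frob g y a c (h.symm _ _ hy.1) (h.symm _ _ hy.2) h1.1 e hg.1 hg.2

theorem exists_m : ∃ m, 0 < m ∧ mu = d * m ∧ 1 + lam + e * m = k := by
  obtain ⟨m, hm⟩ := h.d_mu
  have h0 := h.mu_pos
  refine ⟨m, Nat.pos_of_ne_zero fun e => by simp [e] at hm; omega, hm, ?_⟩
  obtain ⟨a⟩ := h.pt
  have h1 := sum_card_bipartiteAbove_eq_sum_card_bipartiteBelow (s := {y | adj a y})
    (t := {y | NA adj a y}) adj
  rw [sum_congr rfl (g := fun _ => k - (1 + lam)) fun y hy => by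
      rw [← h.split_adj (mem_filter.1 hy).2, bipartiteAbove, filter_filter]; simp,
    sum_congr (s₁ := {y | NA adj a y}) rfl (g := fun _ => mu) fun y hy => by
      rw [← h.hmu a y (mem_filter.1 hy).2, bipartiteBelow, filter_filter]
      exact congrArg _ (filter_congr fun z _ => and_congr_right fun _ => ⟨h.symm _ _, h.symm _ _⟩),
    sum_const, sum_const, h.hk, h.hl, smul_eq_mul, smul_eq_mul, hm, ← mul_assoc, ← h.ke,
    mul_assoc, Nat.mul_right_inj (by have := h.mu_lt; omega)] at h1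
  obtain ⟨b, hb⟩ := h.ex_adj a
  have := h.split_adj hb
  omega

theorem exists_w : ∃ w, 0 < w ∧ k = e * w + 1 := by
  obtain ⟨m, h1, -, h2⟩ := h.exists_m
  obtain ⟨j, hj⟩ := h.e_lam
  exact ⟨j + m, by omega, by rw [← h2, hj]; ring⟩

theorem cop : Nat.Coprime k e := by
  obtain ⟨w, -, rfl⟩ := h.exists_w
  simp

theorem ord_e {x : X} {g : G} (hx : g • x = x) (hg : g ∉ KK G adj x) : orderOf g ∣ e := by
  obtain ⟨y, h1, h2⟩ := h.fix_of_not_mem hx hg
  exact h.he x y h1 ▸ Subgroup.orderOf_dvd_natCard _ ⟨hx, h2⟩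

theorem ord_k {x : X} {g : G} (hg : g ∈ KK G adj x) : orderOf g ∣ k :=
  h.card_K x ▸ Subgroup.orderOf_dvd_natCard _ hg

theorem K_of_fix {x y : X} {g : G} (hg : g ∈ KK G adj x) (hy : g • y = y) : g ∈ KK G adj y := by
  by_contra hc
  have := orderOf_eq_one_iff.1 (Nat.eq_one_of_dvd_coprimes h.cop (h.ord_k hg) (h.ord_e hy hc))
  exact hc (this ▸ one_mem _)

theorem T_eq {T : Subgroup G} (hT : Nat.card T = t) (h1 : T ≠ ⊥) {a x y : X}
    (ha : T ≤ KK G adj a) (hx : T ≤ stabilizer G x) (hy : T ≤ stabilizer G y) (hxy : x ≠ y) :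
    NA adj x y ∧ KK G adj x ⊓ stabilizer G y = T := by
  have h2 : T ≤ KK G adj x ⊓ stabilizer G y := fun g hg => ⟨h.K_of_fix (ha hg) (hx hg), hy hg⟩
  have h3 : NA adj x y := ⟨hxy, fun e => h1 (eq_bot_iff.2 fun g hg =>
    h.K_semi (h2 hg).1 e (hy hg))⟩
  exact ⟨h3, (Subgroup.eq_of_le_of_card_ge h2 (by rw [hT, h.ht x y h3])).symm⟩

theorem spec' {r s : ℂ} (hrs : r ≠ s) (h1 : r + s = lam - mu) (h2 : r * s = mu - k)
    (K : Subgroup G) (ψ : K →* ℂ) :
    ∃ p q : ℕ, (Fintype.card K : ℂ) * (p + q) + ∑ y, ψ y =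
        ∑ y : K, ψ y * (#{x : X | (y : G) • x = x} : ℕ) ∧
      (Fintype.card K : ℂ) * (p * r + q * s) + (∑ y, ψ y) * k =
        ∑ y : K, ψ y * (#{x : X | adj x ((y : G) • x)} : ℕ) := by
  haveI := h.pt
  convert spec adj h.inv h.symm h.irr h.hk h.hlam (fun x y a b => h.hmu x y ⟨a, b⟩) hrs h1 h2 K ψ

theorem spec_one {r s : ℂ} (hrs : r ≠ s) (h1 : r + s = lam - mu) (h2 : r * s = mu - k) :
    ∃ p q : ℕ, p + q = k + l ∧ p * r + q * s + k = 0 := by
  obtain ⟨p, q, h3, h4⟩ := h.spec' hrs h1 h2 ⊥ 1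
  have h5 : ((default : (⊥ : Subgroup G)) : G) = 1 := Subgroup.mem_bot.1 (Subtype.prop _)
  refine ⟨p, q, ?_, by simpa [h.irr, h5] using h4⟩
  simp [h.card_X, h5] at h3
  exact_mod_cast (by linear_combination h3 : (p : ℂ) + q = k + l)

theorem eig (hl : k < l) : ∃ r σ : ℕ, r + mu = lam + σ ∧ r * σ + mu = k := by
  have hm : (mu : ℝ) < k := by exact_mod_cast h.mu_lt
  have h0 : 0 < ((lam : ℝ) - mu) ^ 2 + 4 * (k - mu) := by positivity
  have h1 := Real.sq_sqrt h0.le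
  have h2 := Real.sqrt_pos.2 h0
  set ρ := √(((lam : ℝ) - mu) ^ 2 + 4 * (k - mu))
  obtain ⟨p, q, h3, h4⟩ := h.spec_one (r := ((lam - mu + ρ) / 2 : ℝ)) (s := ((lam - mu - ρ) / 2 : ℝ))
    (fun e => by have := Complex.ofReal_injective e; linarith) (by push_cast; ring)
    (by exact_mod_cast (by linear_combination (-1 / 4 : ℝ) * h1 :
      ((lam - mu + ρ) / 2 : ℝ) * ((lam - mu - ρ) / 2) = mu - k))
  refine int_eig hl h.mu_lt h3 h1 ?_
  have : (p : ℝ) * ((lam - mu + ρ) / 2) + q * ((lam - mu - ρ) / 2) + k = 0 := by exact_mod_cast h4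
  linarith

end Nm

end H24.Rk
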