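import Cfsg.Agent.Lib.Rk3F.R3

/-! Counting involutions. -/

set_option autoImplicit false
set_option linter.unusedSectionVars false
set_option linter.style.haveILetI false

namespace H24.Rk

open Finset MulAction
open scoped Classical Pointwise

variable {G X : Type*} [Group G] [Fintype G] [Fintype X] [MulAction G X] {adj : X → X → Prop}
  {k l lam mu e d t : ℕ}

theorem card_le_of_mul (S : Finset G) {n : ℕ}
    (h : ∀ v ∈ S, ∃ U : Subgroup G, Nat.card U ≤ n ∧ ∀ w ∈ S, v * w ∈ U) : #S ≤ n := by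
  rcases S.eq_empty_or_nonempty with rfl | ⟨v, hv⟩
  · simp
  obtain ⟨U, h1, h2⟩ := h v hv
  rw [card_sub] at h1
  exact (card_le_card_of_injOn (v * ·) (fun w hw => by simpa using h2 w hw)
    (mul_right_injective v).injOn).trans h1

theorem card_mul_le {U V W : Subgroup G} (hU : U ≤ W) (hV : V ≤ W) (h : ∀ g ∈ U, g ∈ V → g = 1) :
    Nat.card U * Nat.card V ≤ Nat.card W := by
  rw [← Nat.card_prod]
  refine Nat.card_le_card_of_injective
    (fun p => ⟨p.1 * p.2, mul_mem (hU p.1.2) (hV p.2.2)⟩) fun p q e => ?_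
  have e' : (p.1 : G) * p.2 = q.1 * q.2 := congrArg Subtype.val e
  have h1 : (q.1 : G)⁻¹ * p.1 = q.2 * (p.2 : G)⁻¹ := by
    rw [inv_mul_eq_iff_eq_mul, ← mul_assoc, ← e', mul_inv_cancel_right]
  have h2 := h _ (mul_mem (inv_mem q.1.2) p.1.2) (h1 ▸ mul_mem q.2.2 (inv_mem p.2.2))
  exact Prod.ext (Subtype.ext (inv_mul_eq_one.1 h2).symm)
    (Subtype.ext (mul_inv_eq_one.1 (h1 ▸ h2)).symm)

theorem cnt3 (Z : Finset G) (F : Finset X) {a : X} (ha : a ∈ F) {φ i B : ℕ}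
    (h0 : ∀ v ∈ Z, v • a ∈ F) (h1 : ∀ v ∈ Z, #{y ∈ F | v • y = y} ≤ φ)
    (h2 : ∀ y ∈ F, #{v ∈ Z | v • y = y} = i) (h3 : ∀ y ∈ F, y ≠ a → #{v ∈ Z | v • a = y} ≤ B) :
    #F * i ≤ (i + (#F - 1) * B) * φ := by
  have h4 : #F * i ≤ #Z * φ := card_mul_le_card_mul (fun y (v : G) => v • y = y)
    (fun y hy => (h2 y hy).ge) h1
  refine h4.trans (Nat.mul_le_mul_right _ ?_)
  rw [card_eq_sum_card_fiberwise (f := (· • a)) (t := F) h0, ← add_sum_erase F _ ha, h2 a ha,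
    ← card_erase_of_mem ha]
  exact Nat.add_le_add_left (sum_le_card_nsmul _ _ _ fun y hy =>
    h3 y (mem_of_mem_erase hy) (ne_of_mem_erase hy)) _

theorem paths (adj : X → X → Prop) (hs : ∀ x y, adj x y → adj y x) (c : X) (S A : Finset X) :
    ∑ P ∈ A with adj c P, #{y ∈ S | adj P y} = ∑ y ∈ S, #{P ∈ A | adj c P ∧ adj y P} := by
  refine (sum_card_bipartiteAbove_eq_sum_card_bipartiteBelow adj).trans (sum_congr rfl fun y _ => ?_)
  rw [bipartiteBelow, filter_filter]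
  exact congrArg _ (filter_congr fun z _ => and_congr_right fun _ => ⟨hs _ _, hs _ _⟩)

theorem conj_inv {v : G} (g : G) : (g * v * g⁻¹ ≠ 1 ∧ g * v * g⁻¹ * (g * v * g⁻¹) = 1) ↔
    (v ≠ 1 ∧ v * v = 1) := by
  rw [conj_mul, Ne, conj_eq_one_iff, conj_eq_one_iff]

theorem ord_two {v : G} (h1 : v ≠ 1) (h2 : v * v = 1) : orderOf v = 2 :=
  orderOf_eq_prime (by rwa [sq]) h1

theorem exists_inv (U : Subgroup G) (h : 2 ∣ Nat.card U) : ∃ v ∈ U, v ≠ 1 ∧ v * v = 1 := by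
  obtain ⟨v, hv⟩ := exists_prime_orderOf_dvd_card' 2 h
  refine ⟨v, v.2, fun e => ?_, ?_⟩
  · rw [show v = 1 from Subtype.ext e, orderOf_one] at hv
    omega
  · have := pow_orderOf_eq_one v
    rw [hv, sq] at this
    exact congrArg Subtype.val this

variable (G X) in
/-- Involutions with a fixed point. -/
noncomputable def ZZ : Finset G := {v | (v ≠ 1 ∧ v * v = 1) ∧ ∃ x : X, v • x = x}

variable (G) in
/-- The number of involutions with a fixed point sending `x` to `y`. -/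
noncomputable def bt (x y : X) : ℕ := #{v ∈ ZZ G X | v • x = y}

theorem mem_ZZ {v : G} : v ∈ ZZ G X ↔ (v ≠ 1 ∧ v * v = 1) ∧ ∃ x : X, v • x = x :=
  mem_filter_univ _

theorem ZZ_conj (g : G) {v : G} : g * v * g⁻¹ ∈ ZZ G X ↔ v ∈ ZZ G X := by
  rw [mem_ZZ, mem_ZZ, conj_inv, (MulAction.surjective g).exists]
  simp only [conj_fix]

theorem bt_smul (g : G) (x y : X) : bt G (g • x) (g • y) = bt G x y :=
  (card_bijective (MulAut.conj g) (MulAut.conj g).bijective fun w => by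
    simp [ZZ_conj, mul_smul]).symm

theorem bt_le (x y : X) : bt G x y ≤ Nat.card (S2 G x y) :=
  card_le_of_mul _ fun v hv => ⟨_, le_rfl, fun w hw => by
    obtain ⟨h1, rfl⟩ := mem_filter.1 hv
    obtain ⟨h2, h3⟩ := mem_filter.1 hw
    refine ⟨mem_stabilizer_iff.2 ?_, mem_stabilizer_iff.2 ?_⟩
    · rw [mul_smul, h3, ← mul_smul, (mem_ZZ.1 h1).1.2, one_smul]
    · rw [mul_smul, ← h3, ← mul_smul w, (mem_ZZ.1 h2).1.2, one_smul, h3]⟩

theorem bt_self (x : X) : bt G x x = #{v : G | (v ≠ 1 ∧ v * v = 1) ∧ v • x = x} := by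
  rw [bt, ZZ, filter_filter]
  exact congrArg _ (filter_congr fun v _ => ⟨fun h => ⟨h.1.1, h.2⟩, fun h => ⟨⟨h.1, x, h.2⟩, h.2⟩⟩)

namespace Nm

variable (h : Nm G adj k l lam mu e d t)
include h

theorem glob : ∃ β₁ β₂, β₁ ≤ e ∧ β₂ ≤ d ∧ (∀ x y, adj x y → bt G x y = β₁) ∧
    (∀ x y, NA adj x y → bt G x y = β₂) ∧ ∀ f, (∀ v ∈ ZZ G X, #{x : X | v • x = x} = f) →
      ∀ x : X, #(ZZ G X) * f = (1 + k + l) * bt G x x ∧
        #(ZZ G X) = bt G x x + k * β₁ + l * β₂ := by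
  obtain ⟨a, b, c, h1, -, h2⟩ := h.c1
  have h3 : ∀ x y, adj x y → bt G x y = bt G a b := fun x y hxy => by
    obtain ⟨g, rfl, rfl⟩ := h.t1 a b x y h1 hxy
    exact bt_smul g a b
  have h4 : ∀ x y, NA adj x y → bt G x y = bt G a c := fun x y hxy => by
    obtain ⟨g, rfl, rfl⟩ := h.t2 a c x y h2 hxy
    exact bt_smul g a c
  refine ⟨_, _, h.he a b h1 ▸ bt_le a b, h.hd a c h2 ▸ bt_le a c, h3, h4, fun f hf x => ⟨?_, ?_⟩⟩
  · rw [← h.card_X, ← card_univ]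
    refine card_mul_eq_card_mul (fun (v : G) (y : X) => v • y = y) hf fun y _ => ?_
    obtain ⟨g, rfl⟩ := h.tr x y
    exact bt_smul g x x
  · rw [card_eq_sum_card_fiberwise (f := (· • x)) (t := univ) fun _ _ => mem_univ _]
    exact h.sum_const' x (bt G x) (h3 x) (h4 x)

theorem k_pos : 0 < k := h.mu_pos.trans h.mu_lt

theorem l_pos : 0 < l := h.pt.elim fun a => (h.ex_na a).elim fun c hc =>
  h.hl a ▸ card_pos.2 ⟨c, by simpa using hc⟩

theorem not_K {x : X} {g : G} (hg : orderOf g ∣ e) (h1 : g ≠ 1) : g ∉ KK G adj x := fun hc =>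
  h1 (orderOf_eq_one_iff.1 (Nat.eq_one_of_dvd_coprimes h.cop (h.ord_k hc) hg))

theorem sq_le {a c : X} (hc : NA adj a c) : ∃ c', NA adj a c' ∧ ∀ W ≤ KK G adj a,
    Nat.card ↥(W ⊓ stabilizer G c) * Nat.card ↥(W ⊓ stabilizer G c') ≤ Nat.card W := by
  obtain ⟨c', h1, h2⟩ := h.ex_c2 hc
  exact ⟨c', h1, fun W hW => card_mul_le inf_le_left inf_le_left fun g h3 h4 =>
    h.K_semi (h.K_of_fix (hW h3.1) h3.2) h2 h4.2⟩

theorem t_sq : t * t ≤ k := by
  obtain ⟨a, b, c, -, -, h1⟩ := h.c1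
  obtain ⟨c', h2, h3⟩ := h.sq_le h1
  have := h3 _ le_rfl
  rwa [h.ht a c h1, h.ht a c' h2, h.card_K] at this

theorem e_dvd {a : X} (S : Finset G) (h1 : ∀ v ∈ S, v ≠ 1 ∧ v ∈ KK G adj a)
    (h2 : ∀ g : G, g • a = a → ∀ v ∈ S, g * v * g⁻¹ ∈ S) : e ∣ #S := by
  obtain ⟨b, hb⟩ := h.ex_adj a
  rw [← h.he a b hb]
  refine card_dvd_conj _ S (fun g hg => h2 g hg.1) fun g hg v hv e => ?_
  by_contra hc
  exact (h1 v hv).1 (h.F1 hg.1 (fun hk => hc (h.K_semi hk hb hg.2)) (h1 v hv).2 e)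

theorem parity (hG : Even (Nat.card G)) : Even k ∨ Even e := by
  by_contra hc
  push Not at hc
  have h1 : ¬ Even (l * d) := by rw [← h.ke, Nat.even_mul]; tauto
  rw [h.card_G] at hG
  simp only [Nat.even_mul, Nat.even_add, Nat.not_even_one] at hG h1
  tauto

end Nm

namespace Nm

variable (h : Nm G adj k l lam mu e d 1)
include h

theorem T_bot {x y : X} {g : G} (hxy : NA adj x y) (hg : g ∈ KK G adj x) (e : g • y = y) :
    g = 1 := Subgroup.mem_bot.1 (Subgroup.card_eq_one.1 (h.ht x y hxy) ▸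
      (⟨hg, e⟩ : g ∈ KK G adj x ⊓ stabilizer G y))

theorem exists_c : ∃ c, 2 ≤ c ∧ l = k * c ∧ e = c * d := by
  obtain ⟨a, b, z, -, -, hz⟩ := h.c1
  obtain ⟨c, hc⟩ : k ∣ l := by
    rw [← h.card_K a, ← h.hl a]
    refine card_dvd_pts _ _ (fun g hg y hy => ?_) fun g hg y hy e => ?_ <;>
      rw [mem_filter_univ] at *
    exacts [h.na_smul (h.K_fix hg) hy, h.T_bot hy hg e]
  have h1 : e = c * d := Nat.eq_of_mul_eq_mul_left h.k_pos (by rw [h.ke, hc, mul_assoc])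
  have h2 := h.two_le_e
  refine ⟨c, ?_, hc, h1⟩
  by_contra h3
  obtain rfl : c = 1 := by
    rcases c with _ | _ | _ <;> omega
  haveI := Finite.one_lt_card_iff_nontrivial.1
    (by rw [h.hd a z hz]; omega : 1 < Nat.card (S2 G a z))
  obtain ⟨⟨x, hxa, hxz⟩, hx⟩ := exists_ne (1 : S2 G a z)
  have h4 : x ≠ 1 := fun e => hx (Subtype.ext e)
  have h5 : x ∉ KK G adj a := fun e => h4 (h.T_bot hz e hxz)
  obtain ⟨P, h6, h7⟩ := h.fix_of_not_mem hxz (h.not_K (h.ord_e hxa h5) h4)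
  have h8 : NA adj a P := ⟨fun e => hz.2 (h.symm _ _ (e ▸ h6)), fun e =>
    h4 (h.frob x P a z (h.symm _ _ e) (h.symm _ _ h6) hz.1 h7 hxa hxz)⟩
  obtain ⟨y, hy, rfl⟩ := surj_on_of_inj_on_of_card_le (s := {g | g ∈ KK G adj a})
    (t := {y | NA adj a y}) (fun g _ => g • z)
    (fun g hg => by simpa using h.na_smul (h.K_fix (by simpa using hg)) hz)
    (fun g g' hg hg' e => by
      rw [mem_filter_univ] at hg hg'
      exact (inv_mul_eq_one.1 (h.T_bot hz (mul_mem (inv_mem hg') hg)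
        (by rw [mul_smul, e, inv_smul_smul]))).symm)
    (by rw [← card_sub, h.card_K, h.hl]; omega) P (by simpa using h8)
  rw [mem_filter_univ] at hy
  have h9 := h.T_bot hz (mul_mem (inv_mem hy) (h.K_norm hxa hy)) (by
    rw [mul_smul, mul_smul, mul_smul, inv_smul_eq_iff.2 (show z = x • z from hxz.symm), h7,
      inv_smul_smul])
  rw [h.F1 hxa h5 hy (inv_mul_eq_one.1 h9).symm, one_smul] at h6
  exact h.irr _ h6

theorem case1a (hk : Even k) : False := by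
  obtain ⟨c, h1, h2, h3⟩ := h.exists_c
  obtain ⟨β₁, β₂, h4, h5, -, -, h6⟩ := h.glob
  have hK : ∀ (v : G) x, v ≠ 1 → v * v = 1 → v • x = x → v ∈ KK G adj x := fun v x a b c => by
    by_contra hc
    have := Nat.eq_one_of_dvd_coprimes h.cop hk.two_dvd (ord_two a b ▸ h.ord_e c hc)
    omega
  obtain ⟨a⟩ := h.pt
  obtain ⟨h7, h8⟩ := h6 1 (fun v hv => by
    obtain ⟨⟨h7, h8⟩, x, hx⟩ := mem_ZZ.1 hv
    refine card_eq_one.2 ⟨x, eq_singleton_iff_unique_mem.2 ⟨by simpa using hx, fun y hy => ?_⟩⟩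
    rw [mem_filter_univ] at hy
    by_contra hc
    by_cases e : adj x y
    exacts [h7 (h.K_semi (hK v x h7 h8 hx) e hy),
      h7 (h.T_bot ⟨Ne.symm hc, e⟩ (hK v x h7 h8 hx) hy)]) a
  have h9 : e ≤ bt G a a := by
    rw [bt_self]
    refine Nat.le_of_dvd (card_pos.2 ?_) (h.e_dvd (a := a) _ (fun v hv => ?_) fun g hg v hv => ?_)
    · obtain ⟨v, hv, hv'⟩ := exists_inv (KK G adj a) (h.card_K a ▸ hk.two_dvd)
      exact ⟨v, by simpa using ⟨hv', h.K_fix hv⟩⟩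
    · rw [mem_filter_univ] at hv
      exact ⟨hv.1.1, hK v a hv.1.1 hv.1.2 hv.2⟩
    · rw [mem_filter_univ] at hv ⊢
      exact ⟨(conj_inv g).2 hv.1, hg ▸ conj_fix.2 hv.2⟩
  have := h.l_pos
  have := h.d_pos
  have : l * d < l * e := Nat.mul_lt_mul_of_pos_left (by nlinarith) h.l_pos
  nlinarith [Nat.mul_le_mul_left k h4, Nat.mul_le_mul_left l h5, Nat.mul_le_mul_left k h9,
    Nat.mul_le_mul_left l h9]

end Nm

end H24.Rk
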