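import Cfsg.Agent.Lib.Rk3F.R4
import Cfsg.Agent.Lib.PGroup.Basic

/-! The kernel has odd order. -/

set_option autoImplicit false
set_option linter.unusedSectionVars false
set_option linter.style.haveILetI false

namespace H24.Rk

open Finset MulAction
open scoped Classical Pointwise

variable {G X : Type*} [Group G] [Fintype G] [Fintype X] [MulAction G X] {adj : X → X → Prop}
  {k l lam mu e d t : ℕ}

theorem central_inv {K : Type*} [Group K] [Fintype K] [Group.IsNilpotent K] (h : 2 ∣ Nat.card K) :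
    ∃ z : K, z ≠ 1 ∧ z * z = 1 ∧ ∀ y, y * z = z * y := by
  obtain ⟨P⟩ : Nonempty (Sylow 2 K) := inferInstance
  have h1 := H5.inf_center_ne_bot_of_nilpotent (P : Subgroup K) (P.ne_bot_of_dvd_card h)
  have h2 : IsPGroup 2 ↥((P : Subgroup K) ⊓ Subgroup.center K) := P.2.to_inf_left
  obtain ⟨v, hv, h3, h4⟩ := exists_inv _
    (h2.card_eq_or_dvd.resolve_left (mt Subgroup.card_eq_one.1 h1))
  exact ⟨v, h3, h4, Subgroup.mem_center_iff.1 hv.2⟩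

theorem card_ne_one (U : Subgroup G) : #{g | g ∈ U ∧ g ≠ 1} + 1 = Nat.card U := by
  rw [card_sub, ← card_erase_add_one (by simp : (1 : G) ∈ ({g | g ∈ U} : Finset G))]
  congr 2
  ext g
  simp [and_comm]

variable (G adj) in
/-- Central involutions of the kernel. -/
def ZK (x : X) : Subgroup G where
  carrier := {z | z ∈ KK G adj x ∧ z * z = 1 ∧ ∀ y ∈ KK G adj x, y * z = z * y}
  one_mem' := ⟨one_mem _, by simp, by simp⟩
  mul_mem' := by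
    rintro a b ⟨h1, h2, h3⟩ ⟨h4, h5, h6⟩
    refine ⟨mul_mem h1 h4, ?_, fun y hy => by
      rw [← mul_assoc, h3 y hy, mul_assoc, h6 y hy, mul_assoc]⟩
    rw [mul_assoc, ← mul_assoc b, h3 b h4, mul_assoc, h5, mul_one, h2]
  inv_mem' := by
    rintro a ⟨h1, h2, h3⟩
    rw [inv_eq_of_mul_eq_one_right h2]
    exact ⟨h1, h2, h3⟩

theorem R3.ZK_conj (h : R3 G adj) (w : G) {x : X} {g : G} :
    g ∈ ZK G adj x ↔ w * g * w⁻¹ ∈ ZK G adj (w • x) := by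
  refine and_congr (h.K_conj w) (and_congr (by rw [conj_mul, conj_eq_one_iff]) ⟨fun h1 y hy => ?_,
    fun h1 y hy => ?_⟩)
  · obtain ⟨y, rfl⟩ := (MulAut.conj w).surjective y
    rw [MulAut.conj_apply] at hy ⊢
    rw [conj_mul, conj_mul, h1 y ((h.K_conj w).2 hy)]
  · have := h1 _ ((h.K_conj w).1 hy)
    rw [conj_mul, conj_mul] at this
    simpa using this

namespace Nm

variable (h : Nm G adj k l lam mu e d t)
include h

theorem F_two {a c : X} (hc : NA adj a c) {F : Finset X} (ha : a ∈ F) (hc' : c ∈ F) (x : X) :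
    ∃ w ∈ F, x ≠ w := by
  by_cases e : x = a
  exacts [⟨c, hc', e ▸ hc.1⟩, ⟨a, ha, e⟩]

theorem mul_mem_T {T : Subgroup G} (hT : Nat.card T = t) (h1 : T ≠ ⊥) {a y : X}
    (ha : T ≤ KK G adj a) (hy : T ≤ stabilizer G y) (hne : y ≠ a) {v w : G} (hv : v * v = 1)
    (hw : w * w = 1) (h2 : v • a = y) (h3 : w • a = y) (h4 : ∀ g ∈ T, v * w * g = g * (v * w)) :
    v * w ∈ T := by
  have h5 : (v * w) • a = a := by rw [mul_smul, h3, ← h2, ← mul_smul, hv, one_smul]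
  have h6 : (v * w) • y = y := by rw [mul_smul, ← h3, ← mul_smul w, hw, one_smul, h2, h3]
  rw [← (h.T_eq hT h1 ha (fun g hg => h.K_fix (ha hg)) hy hne.symm).2]
  refine ⟨?_, h6⟩
  by_contra hc
  exact h1 (eq_bot_iff.2 fun g hg => h.F1 h5 hc (ha hg) (mul_inv_eq_iff_eq_mul.2 (h4 g hg)))

theorem zeta (ht : t ≠ 1) {ζ ζ₀ : ℕ} (h1 : ∀ x, Nat.card (ZK G adj x) = ζ)
    (h2 : ∀ x y, NA adj x y → Nat.card ↥(ZK G adj x ⊓ stabilizer G y) = ζ₀) : ζ ≤ 2 * ζ₀ := by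
  obtain ⟨a, b, c, -, -, hc⟩ := h.c1
  set T := KK G adj a ⊓ stabilizer G c
  have hT : Nat.card T = t := h.ht a c hc
  have hT1 : T ≠ ⊥ := fun e => ht (by rw [← hT, e, Subgroup.card_bot])
  set F : Finset X := {x | T ≤ stabilizer G x}
  have mF : ∀ {x}, x ∈ F ↔ T ≤ stabilizer G x := mem_filter_univ _
  have ha : a ∈ F := mF.2 fun g hg => h.K_fix hg.1
  have hcF : c ∈ F := mF.2 inf_le_right
  have hK : ∀ x ∈ F, T ≤ KK G adj x := fun x hx g hg => h.K_of_fix hg.1 (mF.1 hx hg)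
  have hq : ∀ x ∈ F, ∀ y ∈ F, x ≠ y → NA adj x y ∧ KK G adj x ⊓ stabilizer G y = T :=
    fun x hx y hy => h.T_eq hT hT1 inf_le_left (mF.1 hx) (mF.1 hy)
  have h3 : ∀ x ∈ F, Nat.card ↥(ZK G adj x ⊓ T) = ζ₀ := fun x hx => by
    obtain ⟨w, hw, hxw⟩ := h.F_two hc ha hcF x
    rw [← h2 x w (hq x hx w hw hxw).1, ← (hq x hx w hw hxw).2, ← inf_assoc,
      inf_eq_left.2 (show ZK G adj x ≤ KK G adj x from fun g hg => hg.1)]
  have h4 : ∀ x ∈ F, ∀ y ∈ F, ∀ v ∈ KK G adj x, v ∉ T → v • y = y → x = y :=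
    fun x hx y hy v hv h5 h6 => by_contra fun e => h5 ((hq x hx y hy e).2 ▸ ⟨hv, h6⟩)
  have h5 := cnt3 {v | v ∉ T ∧ ∃ x ∈ F, v ∈ ZK G adj x} F ha (φ := 1) (i := ζ - ζ₀) (B := ζ₀)
    (fun v hv => by
      obtain ⟨-, x, hx, hv⟩ := (mem_filter_univ _).1 hv
      exact mF.2 fun g hg => mem_stabilizer_iff.2 (by
        rw [← mul_smul, hv.2.2 g (hK x hx hg), mul_smul, h.K_fix hg.1]))
    (fun v hv => by
      obtain ⟨h5, x, hx, hv⟩ := (mem_filter_univ _).1 hv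
      exact card_le_one.2 fun y hy z hz =>
        (h4 x hx y (mem_filter.1 hy).1 v hv.1 h5 (mem_filter.1 hy).2).symm.trans
        (h4 x hx z (mem_filter.1 hz).1 v hv.1 h5 (mem_filter.1 hz).2))
    (fun y hy => by
      rw [← h1 y, ← h3 y hy, card_sub, card_sub,
        ← card_filter_add_card_filter_not (s := {g | g ∈ ZK G adj y}) (· ∈ T), filter_filter,
        filter_filter, filter_filter]
      refine Nat.eq_sub_of_add_eq' (congrArg₂ _ (congrArg _ (filter_congr fun _ _ => Iff.rfl))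
        (congrArg _ (filter_congr fun v _ => ⟨?_, fun hv => ⟨⟨hv.2, y, hy, hv.1⟩, h.K_fix hv.1.1⟩⟩)))
      rintro ⟨⟨h5, x, hx, hv⟩, h6⟩
      exact ⟨h4 x hx y hy v hv.1 h5 h6 ▸ hv, h5⟩)
    fun y hy hya => card_le_of_mul _ fun v hv => by
      obtain ⟨hv, h6⟩ := mem_filter.1 hv
      obtain ⟨h5, x, hx, hv⟩ := (mem_filter_univ _).1 hv
      refine ⟨_, (h3 x hx).le, fun w hw => ?_⟩
      obtain ⟨hw, h7⟩ := mem_filter.1 hw
      obtain ⟨h8, x', hx', hw⟩ := (mem_filter_univ _).1 hw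
      have h9 := h.mul_mem_T hT hT1 inf_le_left (mF.1 hy) hya hv.2.1 hw.2.1 h6 h7 fun g hg => by
        rw [mul_assoc, ← hw.2.2 g (hK x' hx' hg), ← mul_assoc, ← hv.2.2 g (hK x hx hg), mul_assoc]
      obtain rfl := h4 x' hx' x hx w hw.1 h8 (h.K_fix ((mul_mem_cancel_left hv.1).1 (hK x hx h9)))
      exact ⟨mul_mem hv hw, h9⟩
  have h6 : 1 < #F := one_lt_card.2 ⟨a, ha, c, hcF, hc.1⟩
  obtain ⟨n, hn⟩ := Nat.exists_eq_add_of_lt h6
  rw [hn, show 1 + n + 1 - 1 = n + 1 by omega] at h5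
  have : (n + 1) * (ζ - ζ₀) ≤ (n + 1) * ζ₀ := by linarith
  have := Nat.le_of_mul_le_mul_left this (by omega)
  omega

theorem zeta' (hk : Even k) (ht : t ≠ 1) : e = 3 ∧ (∀ x, Nat.card (ZK G adj x) = 4) ∧
    ∀ x y, NA adj x y → Nat.card ↥(ZK G adj x ⊓ stabilizer G y) = 2 := by
  obtain ⟨a, b, c, -, -, hc⟩ := h.c1
  have h1 : ∀ x, Nat.card (ZK G adj x) = Nat.card (ZK G adj a) := fun x => by
    obtain ⟨g, rfl⟩ := h.tr a x
    exact (card_conj g fun w => h.ZK_conj g).symm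
  have h2 : ∀ x y, NA adj x y → Nat.card ↥(ZK G adj x ⊓ stabilizer G y) =
      Nat.card ↥(ZK G adj a ⊓ stabilizer G c) := fun x y hxy => by
    obtain ⟨g, rfl, rfl⟩ := h.t2 a c x y hc hxy
    exact (card_conj g fun w => and_congr (h.ZK_conj g) conj_fix.symm).symm
  have h3 := h.zeta ht h1 h2
  obtain ⟨c', h4, h5⟩ := h.sq_le hc
  have h6 := h5 (ZK G adj a) fun g hg => hg.1
  rw [h2 a c' h4] at h6
  have h7 : e ≤ #{g | g ∈ ZK G adj a ∧ g ≠ 1} := by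
    refine Nat.le_of_dvd (card_pos.2 ?_) (h.e_dvd (a := a) _ (fun v hv => ?_) fun g hg v hv => ?_)
    · haveI := (h.KK_spec a).2.1
      obtain ⟨z, h7, h8, h9⟩ := central_inv (h.card_K a ▸ hk.two_dvd)
      exact ⟨z, (mem_filter_univ _).2 ⟨⟨z.2, congrArg Subtype.val h8,
        fun y hy => congrArg Subtype.val (h9 ⟨y, hy⟩)⟩, fun e => h7 (Subtype.ext e)⟩⟩
    · rw [mem_filter_univ] at hv
      exact ⟨hv.2, hv.1.1⟩
    · rw [mem_filter_univ] at hv ⊢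
      exact ⟨hg ▸ (h.ZK_conj g).1 hv.1, by simpa using hv.2⟩
  have h8 := card_ne_one (ZK G adj a)
  have h9 := h.two_le_e
  have h10 : e ≠ 2 := fun e => by
    have := Nat.eq_one_of_dvd_coprimes h.cop hk.two_dvd (e ▸ dvd_rfl)
    omega
  have h11 : Nat.card ↥(ZK G adj a ⊓ stabilizer G c) ≤ 2 := by nlinarith
  exact ⟨by omega, fun x => by rw [h1]; omega, fun x y hxy => by rw [h2 x y hxy]; omega⟩

theorem sum_nb {a c : X} (hc : NA adj a c) (f : X → ℕ) {u v : ℕ}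
    (h1 : ∀ P, adj a P → adj c P → f P = u) (h2 : ∀ P, NA adj a P → adj c P → f P = v) :
    ∑ P with adj c P, f P = mu * u + (k - mu) * v := by
  rw [sum_filter, h.sum_split a, if_neg (h.na_symm hc).2, ← sum_filter, ← sum_filter, filter_filter,
    filter_filter, sum_congr rfl fun P hP => ((mem_filter_univ _).1 hP).elim (h1 P),
    sum_congr (s₁ := {P | NA adj a P ∧ adj c P}) rfl fun P hP =>
      ((mem_filter_univ _).1 hP).elim (h2 P), sum_const, sum_const,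
    h.hmu a c hc, ← h.split_na hc]
  simp

theorem odd_k (hk : Even k) : False := by
  by_cases ht : t = 1
  · subst ht
    exact h.case1a hk
  obtain ⟨rfl, h1, h2⟩ := h.zeta' hk ht
  obtain ⟨a, b, c, hb, -, hc⟩ := h.c1
  set Z : Finset G := {g | g ∈ ZK G adj a ∧ g ≠ 1}
  have mZ : ∀ {y}, y ∈ Z ↔ y ∈ ZK G adj a ∧ y ≠ 1 := mem_filter_univ _
  have h3 : ∀ P, NA adj a P → #{y ∈ Z | y • P = P} = 1 := fun P hP => by
    have := card_ne_one (ZK G adj a ⊓ stabilizer G P)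
    rw [h2 a P hP] at this
    refine Nat.add_right_cancel (m := 1) (.trans (congrArg (#· + 1) (Finset.ext fun g => ?_)) this)
    simp only [mem_filter, mZ, mem_univ, true_and, and_right_comm]
    rfl
  have un : ∀ P, NA adj a P → ∀ y ∈ Z, ∀ y' ∈ Z, y • P = P → y' • P = P → y = y' :=
    fun P hP y a1 y' a2 a3 a4 =>
      card_le_one.1 (h3 P hP).le y (mem_filter.2 ⟨a1, a3⟩) y' (mem_filter.2 ⟨a2, a4⟩)
  have cj : ∀ g : G, g • a = a → ∀ y ∈ Z, g * y * g⁻¹ ∈ Z := fun g hg y hy =>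
    mZ.2 ⟨hg ▸ (h.ZK_conj g).1 (mZ.1 hy).1, by simpa using (mZ.1 hy).2⟩
  obtain ⟨y₀, hy₀⟩ := card_pos.1 ((h3 c hc).symm ▸ Nat.one_pos)
  obtain ⟨hy₀, hc₀⟩ := mem_filter.1 hy₀
  have hdt : d = t := by
    rw [← h.hd a c hc, ← h.ht a c hc]
    refine congrArg (fun U : Subgroup G => Nat.card U) (le_antisymm (fun x hx => ⟨?_, hx.2⟩)
      fun x hx => ⟨h.K_fix hx.1, hx.2⟩)
    by_contra hx'
    exact (mZ.1 hy₀).2 (h.F1 hx.1 hx' (mZ.1 hy₀).1.1 (un c hc _ (cj x hx.1 _ hy₀) _ hy₀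
      (by have := (conj_fix (g := x)).2 hc₀; rwa [show x • c = c from hx.2] at this) hc₀))
  obtain ⟨g, hg1, hga, hgb⟩ := h.ex_E hb
  have hgK : g ∉ KK G adj a := fun e => hg1 (h.K_semi e hb hgb)
  have hg3 : g ^ 3 = 1 := orderOf_dvd_iff_pow_eq_one.1 (h.ord_e hga hgK)
  have hne : ∀ y ∈ Z, g * y * g⁻¹ ≠ y := fun y hy e => (mZ.1 hy).2 (h.F1 hga hgK (mZ.1 hy).1.1 e)
  have hy₁ := cj g hga _ hy₀
  have hy₂ := cj g hga _ hy₁
  have e₀ : g * (g * (g * y₀ * g⁻¹) * g⁻¹) * g⁻¹ = y₀ := by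
    have : g * (g * (g * y₀ * g⁻¹) * g⁻¹) * g⁻¹ = g ^ 3 * y₀ * (g ^ 3)⁻¹ := by
      simp [pow_succ, mul_assoc]
    rw [this, hg3]
    simp
  have n₀ := hne _ hy₀
  have n₁ := hne _ hy₁
  have n₂ := hne _ hy₂
  rw [e₀] at n₂
  obtain ⟨y₁, e₁⟩ : ∃ y, g * y₀ * g⁻¹ = y := ⟨_, rfl⟩
  rw [e₁] at hy₁ hy₂ n₀ n₁ n₂ e₀
  obtain ⟨y₂, e₂⟩ : ∃ y, g * y₁ * g⁻¹ = y := ⟨_, rfl⟩
  rw [e₂] at hy₂ n₁ n₂ e₀
  have hZ : Z = {y₀, y₁, y₂} := by
    have := card_ne_one (ZK G adj a)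
    rw [h1] at this
    refine (eq_of_subset_of_card_le (fun y hy => ?_) ?_).symm
    · simp only [mem_insert, mem_singleton] at hy
      rcases hy with rfl | rfl | rfl <;> assumption
    · rw [card_eq_three.2 ⟨_, _, _, n₀.symm, n₂, n₁.symm, rfl⟩]
      exact (Nat.add_right_cancel this).le
  let Γ : G → Finset X := fun y => {P | NA adj a P ∧ y • P = P}
  have mΓ : ∀ {y P}, P ∈ Γ y ↔ NA adj a P ∧ y • P = P := mem_filter_univ _
  have part : ∀ Q : X → Prop, #{P | NA adj a P ∧ Q P} =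
      #{P ∈ Γ y₀ | Q P} + (#{P ∈ Γ y₁ | Q P} + #{P ∈ Γ y₂ | Q P}) := fun Q => by
    have := sum_card_bipartiteAbove_eq_sum_card_bipartiteBelow (s := Z)
      (t := {P | NA adj a P ∧ Q P}) fun y P => y • P = P
    replace this := this.trans (sum_congr rfl (g := fun _ => 1) fun P hP =>
      h3 P ((mem_filter_univ _).1 hP).1)
    rw [hZ, sum_insert (by simp [n₀.symm, n₂]),
      sum_pair n₁.symm, sum_const, smul_eq_mul, mul_one] at this
    simp only [← this, Γ, bipartiteAbove, filter_filter, and_right_comm]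
  have cΓ : ∀ w : G, w • a = a → ∀ y P, w • P ∈ Γ (w * y * w⁻¹) ↔ P ∈ Γ y := fun w hw y P => by
    rw [mΓ, mΓ, conj_fix, ← h.na_inv w a P, hw]
  have kΓ : ∀ y ∈ Z, ∀ w ∈ KK G adj a, ∀ P, w • P ∈ Γ y ↔ P ∈ Γ y := fun y hy w hw P => by
    rw [← cΓ w (h.K_fix hw) y P, (mZ.1 hy).1.2.2 w hw, mul_inv_cancel_right]
  have N1 : ∀ w : G, w • a = a → ∀ y P,
      #{Q ∈ Γ (w * y * w⁻¹) | adj (w • P) Q} = #{Q ∈ Γ y | adj P Q} := fun w hw y P =>
    (card_bijective (w • ·) (MulAction.bijective w) fun Q => mem_filter.trans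
      ((and_congr (cΓ w hw y Q) (h.inv w P Q)).symm.trans mem_filter.symm)).symm
  have N2 : ∀ y ∈ Z, ∀ w ∈ KK G adj a, ∀ P, #{Q ∈ Γ y | adj (w • P) Q} = #{Q ∈ Γ y | adj P Q} :=
    fun y hy w hw P => by
      rw [← N1 w (h.K_fix hw) y P, (mZ.1 hy).1.2.2 w hw, mul_inv_cancel_right]
  have s1 : ∀ y, #(Γ (g * y * g⁻¹)) = #(Γ y) := fun y =>
    (card_bijective (g • ·) (MulAction.bijective g) fun Q => (cΓ g hga y Q).symm).symm
  have ht0 : 0 < t := hdt ▸ h.d_pos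
  have s2 : ∀ y ∈ Z, #(Γ y) * t = k := by
    have a1 := part fun _ => True
    simp only [and_true, filter_true, h.hl] at a1
    have a2 := s1 y₀
    have a3 := s1 y₁
    have a4 := h.ke
    rw [e₁] at a2
    rw [e₂] at a3
    rw [a1, a3, a2, hdt] at a4
    simp only [hZ, mem_insert, mem_singleton]
    rintro y (rfl | rfl | rfl) <;> nlinarith
  have tr : ∀ y ∈ Z, ∀ P ∈ Γ y, ∀ Q ∈ Γ y, ∃ w ∈ KK G adj a, w • P = Q := fun y hy P hP Q hQ => by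
    have a1 := card_orb (KK G adj a) P {Q | ∃ w ∈ KK G adj a, w • P = Q} fun _ => mem_filter_univ _
    rw [h.ht a P (mΓ.1 hP).1, h.card_K, ← s2 y hy] at a1
    refine (mem_filter_univ (p := fun Q => ∃ w ∈ KK G adj a, w • P = Q) Q).1 ((eq_of_subset_of_card_le (fun Q hQ => ?_)
      (Nat.eq_of_mul_eq_mul_right ht0 a1).ge).ge hQ)
    obtain ⟨w, hw, rfl⟩ := (mem_filter.1 hQ).2
    exact (kΓ y hy w hw P).2 hP
  have sym : ∀ y ∈ Z, ∀ y' ∈ Z, ∀ P ∈ Γ y, ∀ Q ∈ Γ y',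
      #{R ∈ Γ y' | adj P R} = #{R ∈ Γ y | adj Q R} := fun y hy y' hy' P hP Q hQ => by
    have a1 := card_mul_eq_card_mul (s := Γ y) (t := Γ y') adj (m := #{R ∈ Γ y' | adj P R})
      (n := #{R ∈ Γ y | adj Q R}) (fun P' hP' => by
        obtain ⟨w, hw, rfl⟩ := tr y hy P hP P' hP'
        exact N2 y' hy' w hw P) fun Q' hQ' => by
        obtain ⟨w, hw, rfl⟩ := tr y' hy' Q hQ Q' hQ'
        exact (congrArg _ (filter_congr fun z _ => ⟨h.symm _ _, h.symm _ _⟩)).trans (N2 y hy w hw Q)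
    rw [Nat.eq_of_mul_eq_mul_right ht0 ((s2 y hy).trans (s2 y' hy').symm)] at a1
    exact Nat.eq_of_mul_eq_mul_left (card_pos.2 ⟨Q, hQ⟩) a1
  have coc : ∀ P ∈ Γ y₀, ∀ Q ∈ Γ y₀, ¬ adj P Q := fun P hP Q hQ e =>
    (mZ.1 hy₀).2 (h.K_semi (h.K_of_fix (mZ.1 hy₀).1.1 (mΓ.1 hP).2) e (mΓ.1 hQ).2)
  have c₀ : c ∈ Γ y₀ := mΓ.2 ⟨hc, hc₀⟩
  have c₁ : g • c ∈ Γ y₁ := e₁ ▸ (cΓ g hga _ _).2 c₀
  have c₂ : g • g • c ∈ Γ y₂ := e₂ ▸ (cΓ g hga _ _).2 c₁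
  have x₂ : #{R ∈ Γ y₂ | adj c R} = #{R ∈ Γ y₁ | adj c R} := by
    rw [sym _ hy₀ _ hy₂ _ c₀ _ c₂, ← e₀, N1 g hga, ← e₂, N1 g hga]
  obtain ⟨x, hx⟩ : t ∣ #{R ∈ Γ y₁ | adj c R} := by
    rw [← h.ht a c hc]
    refine card_dvd_pts _ _ (fun w hw R hR => ?_) fun w hw R hR e => ?_ <;>
      rw [mem_filter] at hR <;> try rw [mem_filter]
    exacts [⟨(kΓ _ hy₁ w hw.1 R).2 hR.1, h.adj_smul hw.2 hR.2⟩,
      h.K_semi (h.K_of_fix hw.1 hw.2) hR.2 e]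
  have a1 := h.split_na hc
  rw [part, x₂, hx, card_eq_zero.2 (filter_eq_empty_iff.2 (coc c c₀))] at a1
  have a2 := card_mul_eq_card_mul (s := {P | adj a P}) (t := Γ y₀) adj (m := #{R ∈ Γ y₀ | adj b R})
    (n := mu) (fun P hP => by
      obtain ⟨w, hw, rfl⟩ := (h.KK_spec a).2.2 b P hb ((mem_filter_univ _).1 hP)
      exact N2 _ hy₀ w hw b) fun Q hQ => by
      rw [← h.hmu a Q (mΓ.1 hQ).1, bipartiteBelow, filter_filter]
      exact congrArg _ (filter_congr fun z _ => and_congr_right fun _ => ⟨h.symm _ _, h.symm _ _⟩)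
  have a3 := paths adj h.symm c (Γ y₀) univ
  rw [h.sum_nb hc _ (u := #{R ∈ Γ y₀ | adj b R}) (v := t * x) (fun P hP _ => by
      obtain ⟨w, hw, rfl⟩ := (h.KK_spec a).2.2 b P hb hP
      exact N2 _ hy₀ w hw b) (fun P hP hP' => by
      obtain ⟨y, hy⟩ := card_pos.1 ((h3 P hP).symm ▸ Nat.one_pos)
      obtain ⟨hy, hy'⟩ := mem_filter.1 hy
      have := mΓ.2 ⟨hP, hy'⟩
      rw [sym y hy _ hy₀ P this c c₀]
      simp only [hZ, mem_insert, mem_singleton] at hy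
      rcases hy with rfl | rfl | rfl
      exacts [absurd hP' (coc c c₀ P this), hx, x₂.trans hx]),
    ← add_sum_erase _ _ c₀, sum_congr rfl (g := fun _ => mu) fun Q hQ => h.hmu c Q
      ⟨(ne_of_mem_erase hQ).symm, coc c c₀ Q (mem_of_mem_erase hQ)⟩, sum_const,
    card_erase_of_mem c₀] at a3
  simp only [and_self, h.hk, smul_eq_mul] at a2 a3
  obtain ⟨s, hs⟩ : 2 ∣ t := by
    rw [← h.ht a c hc, ← ord_two (mZ.1 hy₀).2 (mZ.1 hy₀).1.2.1]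
    exact Subgroup.orderOf_dvd_natCard _ ⟨(mZ.1 hy₀).1.1, hc₀⟩
  obtain ⟨κ, hκ⟩ : 2 ∣ #(Γ y₀) := by
    rw [← h2 a _ (mΓ.1 c₁).1]
    refine card_dvd_pts _ _ (fun w hw R hR => (kΓ _ hy₀ w hw.1.1 R).2 hR) fun w hw R hR e => ?_
    by_contra hw1
    exact n₀ ((un _ (mΓ.1 c₁).1 _ hy₁ _ (mZ.2 ⟨hw.1, hw1⟩) (mΓ.1 c₁).2 hw.2).trans
      (un R (mΓ.1 hR).1 _ (mZ.2 ⟨hw.1, hw1⟩) _ hy₀ e (mΓ.1 hR).2))
  have a4 := s2 _ hy₀
  have a5 := h.mu_lt
  have a6 : 0 < κ := by have := card_pos.2 ⟨c, c₀⟩; omega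
  generalize #{R ∈ Γ y₀ | adj b R} = m at a2 a3
  rw [hκ] at a2 a3 a4
  obtain rfl : mu = t * m := Nat.eq_of_mul_eq_mul_left (by omega : 0 < 2 * κ) (by
    rw [← a2, ← a4]; ring)
  have a7 : m + 2 * x = 2 * κ := Nat.eq_of_mul_eq_mul_left ht0 (by linarith)
  have a8 : 0 < x := by
    rcases x with _ | x
    · omega
    · omega
  rw [show k - t * m = 2 * (t * x) by omega, show 2 * κ - 1 = m + (2 * x - 1) by omega] at a3
  obtain ⟨x, rfl⟩ := Nat.exists_eq_add_of_lt a8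
  rw [show 2 * (0 + x + 1) - 1 = 2 * x + 1 by omega] at a3
  have a9 : t * (x + 1) = m + 1 := Nat.eq_of_mul_eq_mul_left (by positivity : 0 < 2 * t * (x + 1))
    (by rw [← a4, ← a7] at a3; linarith)
  rw [hs, mul_assoc] at a9
  omega

end Nm

end H24.Rk
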