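import Cfsg.Agent.Lib.Rk3F.R5

/-! Involutions invert the kernel; the case of a non-semiregular kernel. -/

set_option autoImplicit false
set_option linter.unusedSectionVars false
set_option linter.style.haveILetI false

namespace H24.Rk

open Finset MulAction
open scoped Classical Pointwise

variable {G X : Type*} [Group G] [Fintype G] [Fintype X] [MulAction G X] {adj : X → X → Prop}
  {k l lam mu e d t : ℕ}

/-- Involution fixing `a`. -/
abbrev Iv (a : X) (v : G) : Prop := (v ≠ 1 ∧ v * v = 1) ∧ v • a = a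

theorem Iv.conj {a : X} {v : G} (hv : Iv a v) (g : G) : Iv (g • a) (g * v * g⁻¹) :=
  ⟨(conj_inv g).2 hv.1, conj_fix.2 hv.2⟩

theorem Iv.inv {a : X} {v : G} (hv : Iv a v) : v⁻¹ = v := inv_eq_of_mul_eq_one_right hv.1.2

namespace Nm

variable (h : Nm G adj k l lam mu e d t)
include h

theorem iv_not {a : X} {v : G} (hv : Iv a v) : v ∉ KK G adj a := fun hc =>
  h.odd_k (even_iff_two_dvd.2 (ord_two hv.1.1 hv.1.2 ▸ h.ord_k hc))

theorem iv_sq {a : X} {v y : G} (hv : Iv a v) (hy : y ∈ KK G adj a) : v * y * (v * y) = 1 := by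
  obtain ⟨p, h1, h2⟩ := h.fix_of_not_mem (g := v * y) (by rw [mul_smul, h.K_fix hy, hv.2])
    fun e => h.iv_not hv ((mul_mem_cancel_right hy).1 e)
  have := mul_mem (h.K_norm hv.2 hy) hy
  rw [hv.inv, mul_assoc] at this
  exact h.K_semi this h1 (by rw [mul_smul, h2, h2])

theorem iv_inv {a : X} {v y : G} (hv : Iv a v) (hy : y ∈ KK G adj a) : v * y = y⁻¹ * v := by
  have := h.iv_sq hv hy
  rw [mul_eq_one_iff_eq_inv, mul_inv_rev, hv.inv] at this
  exact this

theorem iv_mul {a : X} {v y : G} (hv : Iv a v) (hy : y ∈ KK G adj a) : Iv a (v * y) :=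
  ⟨⟨fun e => h.iv_not hv (by rw [mul_eq_one_iff_eq_inv.1 e]; exact inv_mem hy), h.iv_sq hv hy⟩,
    by rw [mul_smul, h.K_fix hy, hv.2]⟩

theorem iv_mem {a : X} {v w : G} (hv : Iv a v) (hw : Iv a w) : v * w ∈ KK G adj a := by
  haveI := Finite.one_lt_card_iff_nontrivial.1
    (by rw [h.card_K]; have := h.mu_pos; have := h.mu_lt; omega : 1 < Nat.card (KK G adj a))
  obtain ⟨⟨y, hy⟩, h1⟩ := exists_ne (1 : KK G adj a)
  by_contra hc
  refine h1 (Subtype.ext (h.F1 (by rw [mul_smul, hw.2, hv.2]) hc hy ?_))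
  rw [mul_inv_eq_iff_eq_mul, mul_assoc, h.iv_inv hw hy, ← mul_assoc, h.iv_inv hv (inv_mem hy),
    inv_inv, mul_assoc]

theorem ex_iv (he : Even e) {a b : X} (hb : adj a b) : ∃ v : G, Iv a v ∧ v • b = b := by
  obtain ⟨v, h1, h2⟩ := exists_inv (S2 G a b) (h.he a b hb ▸ he.two_dvd)
  exact ⟨v, ⟨h2, h1.1⟩, h1.2⟩

theorem card_iv {a : X} {v : G} (hv : Iv a v) (U : Subgroup G) (hU : v ∈ U) :
    #{w | Iv a w ∧ w ∈ U} = Nat.card ↥(KK G adj a ⊓ U) := by
  rw [card_sub]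
  refine card_bijective (v * ·) (Group.mulLeft_bijective v) fun w => ?_
  rw [mem_filter_univ, mem_filter_univ]
  refine ⟨fun hw => ⟨h.iv_mem hv hw.1, mul_mem hU hw.2⟩, fun hw => ⟨?_, (mul_mem_cancel_left hU).1 hw.2⟩⟩
  simpa [← mul_assoc, hv.1.2] using h.iv_mul hv hw.1

theorem iv_conj {a : X} {v w : G} (hv : Iv a v) (hw : Iv a w) :
    ∃ y ∈ KK G adj a, y * v * y⁻¹ = w := by
  obtain ⟨p, h1, h2⟩ := h.fix_of_not_mem hv.2 (h.iv_not hv)
  obtain ⟨q, h3, h4⟩ := h.fix_of_not_mem hw.2 (h.iv_not hw)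
  obtain ⟨y, hy, rfl⟩ := (h.KK_spec a).2.2 p q h1 h3
  have h5 := hv.conj y
  rw [h.K_fix hy] at h5
  exact ⟨y, hy, (mul_eq_one_iff_eq_inv.1 (h.K_semi (h.iv_mem h5 hw) h3
    (by rw [mul_smul, h4, conj_fix.2 h2]))).trans hw.inv⟩

theorem iv_self (he : Even e) (a : X) : #{w : G | Iv a w} = k := by
  obtain ⟨b, hb⟩ := h.ex_adj a
  obtain ⟨v, hv, -⟩ := h.ex_iv he hb
  simpa only [inf_top_eq, h.card_K, Subgroup.mem_top, and_true] using h.card_iv hv ⊤ trivial

theorem iv_adj (he : Even e) {a b : X} (hb : adj a b) : #{w : G | Iv a w ∧ w • b = b} = 1 := by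
  obtain ⟨v, hv, h1⟩ := h.ex_iv he hb
  have := h.card_iv hv (stabilizer G b) h1
  rw [show KK G adj a ⊓ stabilizer G b = ⊥ from eq_bot_iff.2 fun g hg => h.K_semi hg.1 hb hg.2,
    Subgroup.card_bot] at this
  convert this using 3
  rfl

theorem iv_na {a c : X} (hc : NA adj a c) :
    #{w : G | Iv a w ∧ w • c = c} = if Even d then t else 0 := by
  split_ifs with hd
  · obtain ⟨v, h1, h2⟩ := exists_inv (S2 G a c) (h.hd a c hc ▸ hd.two_dvd)
    rw [← h.ht a c hc, ← h.card_iv ⟨h2, h1.1⟩ _ h1.2]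
    congr 1
  · refine card_eq_zero.2 (filter_eq_empty_iff.2 fun w _ hw => hd (even_iff_two_dvd.2 ?_))
    rw [← ord_two hw.1.1.1 hw.1.1.2, ← h.hd a c hc]
    exact Subgroup.orderOf_dvd_natCard _ ⟨hw.1.2, hw.2⟩

theorem fix_count (he : Even e) {a : X} {v : G} (hv : Iv a v) (F : Finset X)
    (hF : ∀ y ∈ KK G adj a, ∀ p, y • p ∈ F ↔ p ∈ F) :
    k * #{p ∈ F | v • p = p} = ∑ p ∈ F, #{w : G | Iv a w ∧ w • p = p} := by
  have := sum_card_bipartiteAbove_eq_sum_card_bipartiteBelow (s := {w : G | Iv a w}) (t := F)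
    fun w p => w • p = p
  rw [sum_congr rfl (g := fun _ => #{p ∈ F | v • p = p}) fun w hw => by
    obtain ⟨y, hy, rfl⟩ := h.iv_conj hv ((mem_filter_univ _).1 hw)
    exact (card_bijective (y • ·) (MulAction.bijective y) fun p => by
      simp only [mem_filter, mem_bipartiteAbove, hF y hy p, conj_fix]).symm,
    sum_const, h.iv_self he] at this
  simpa only [bipartiteBelow, filter_filter, smul_eq_mul] using this

theorem fix_mem {a : X} {g : G} (ha : g • a = a) (hg : g ∉ KK G adj a) {S : Finset X}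
    (h1 : ∀ p ∈ S, adj a p) (h2 : g ∈ stabilizer G S) (h3 : #S ∣ k) : ∃ p ∈ S, g • p = p := by
  by_contra hc
  push Not at hc
  obtain ⟨q, h4, h5⟩ := h.fix_of_not_mem ha hg
  have h6 := card_dvd_pts (Subgroup.zpowers g) S
    (fun w hw p hp => mem_stabilizer_finset'.1 (Subgroup.zpowers_le.2 h2 hw) hp)
    fun w hw p hp e => h.frob w a p q (h1 p hp) h4 (fun e => hc p hp (e ▸ h5))
      (Subgroup.zpowers_le.2 (mem_stabilizer_iff.2 ha) hw) e
      (Subgroup.zpowers_le.2 (mem_stabilizer_iff.2 h5) hw)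
  rw [Nat.card_zpowers] at h6
  exact hg (orderOf_eq_one_iff.1 (Nat.eq_one_of_dvd_coprimes h.cop (h6.trans h3) (h.ord_e ha hg)) ▸
    one_mem _)

theorem k_lt : k < mu + l := by
  obtain ⟨a, b, c, -, -, hc⟩ := h.c1
  rw [← h.split_na hc, ← h.hl a]
  exact Nat.add_lt_add_left (card_lt_card ⟨monotone_filter_right _ fun _ _ => And.left,
    fun e => h.irr c ((mem_filter_univ _).1 (e ((mem_filter_univ _).2 hc))).2⟩) _

theorem half (h0 : lam = 0) {S : Finset X} {x y : X} (hxy : adj x y) :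
    #{z ∈ S | adj x z} + #{z ∈ S | adj y z} ≤ #S := by
  rw [← card_union_of_disjoint (disjoint_filter.2 fun z _ h1 h2 =>
    filter_eq_empty_iff.1 (card_eq_zero.1 ((h.hlam x y hxy).trans h0)) (mem_univ z) ⟨h1, h2⟩)]
  exact card_le_card (union_subset (filter_subset _ _) (filter_subset _ _))

theorem case2a (he : Even e) (ht : t ≠ 1) : k = 9 ∧ l = 6 ∧ e = 4 := by
  obtain ⟨a, b, c, hb, -, hc⟩ := h.c1
  set T := KK G adj a ⊓ stabilizer G c
  have hT : Nat.card T = t := h.ht a c hc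
  have hT1 : T ≠ ⊥ := fun e => ht (by rw [← hT, e, Subgroup.card_bot])
  set F : Finset X := {x | T ≤ stabilizer G x}
  have mF : ∀ {x}, x ∈ F ↔ T ≤ stabilizer G x := mem_filter_univ _
  have ha : a ∈ F := mF.2 fun g hg => h.K_fix hg.1
  have hcF : c ∈ F := mF.2 inf_le_right
  have hK : ∀ x ∈ F, T ≤ KK G adj x := fun x hx g hg => h.K_of_fix hg.1 (mF.1 hx hg)
  have hq : ∀ x ∈ F, ∀ y ∈ F, x ≠ y → NA adj x y ∧ KK G adj x ⊓ stabilizer G y = T :=
    fun x hx y hy => h.T_eq hT hT1 inf_le_left (mF.1 hx) (mF.1 hy)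
  have h1 : ∀ x ∈ F, ∀ v : G, Iv x v → ∀ p ∈ F, v • p ∈ F := fun x hx v hv p hp =>
    mF.2 fun g hg => mem_stabilizer_iff.2 (by
      rw [← mul_smul, ← inv_inv g, ← h.iv_inv hv (hK x hx (inv_mem hg)), mul_smul,
        show g⁻¹ • p = p from mF.1 hp (inv_mem hg)])
  obtain ⟨n, hn⟩ := Nat.exists_eq_add_of_lt (one_lt_card.2 ⟨a, ha, c, hcF, hc.1⟩ : 1 < #F)
  have h2 : ∀ x ∈ F, ∀ v : G, Iv x v →
      k * #{p ∈ F | v • p = p} = k + (n + 1) * if Even d then t else 0 := fun x hx v hv => by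
    have a1 : ∀ y ∈ KK G adj x, ∀ p ∈ F, y • p ∈ F := fun y hy p hp => by
      have := h1 x hx v hv _ (h1 x hx _ (h.iv_mul hv hy) p hp)
      rwa [← mul_smul, ← mul_assoc, hv.1.2, one_mul] at this
    rw [h.fix_count he hv F fun y hy p => ⟨fun e => by simpa using a1 _ (inv_mem hy) _ e, a1 y hy p⟩,
      ← add_sum_erase _ _ hx, sum_congr rfl fun p hp => h.iv_na
        (hq x hx p (mem_of_mem_erase hp) (ne_of_mem_erase hp).symm).1, sum_const,
      card_erase_of_mem hx, hn, ← h.iv_self he x]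
    simp [and_assoc, add_comm]
  obtain ⟨v₀, hv₀, -⟩ := h.ex_iv he hb
  have h3 := cnt3 {v : G | ∃ x ∈ F, Iv x v} F ha (φ := #{p ∈ F | v₀ • p = p}) (i := k) (B := t)
    (fun v hv => by
      obtain ⟨x, hx, hv⟩ := (mem_filter.1 hv).2
      exact h1 x hx v hv a ha)
    (fun v hv => by
      obtain ⟨x, hx, hv⟩ := (mem_filter.1 hv).2
      exact (Nat.eq_of_mul_eq_mul_left h.k_pos ((h2 x hx v hv).trans (h2 a ha v₀ hv₀).symm)).le)
    (fun y hy => by
      rw [← h.iv_self he y, filter_filter]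
      exact congrArg _ (filter_congr fun v _ =>
        ⟨fun ⟨⟨_, _, h3⟩, h4⟩ => ⟨h3.1, h4⟩, fun h3 => ⟨⟨y, hy, h3⟩, h3.2⟩⟩))
    fun y hy hya => card_le_of_mul _ fun v hv => ⟨T, hT.le, fun w hw => by
      obtain ⟨hv, h6⟩ := mem_filter.1 hv
      obtain ⟨x, hx, hv⟩ := (mem_filter.1 hv).2
      obtain ⟨hw, h7⟩ := mem_filter.1 hw
      obtain ⟨x', hx', hw⟩ := (mem_filter.1 hw).2
      exact h.mul_mem_T hT hT1 inf_le_left (mF.1 hy) hya hv.1.2 hw.1.2 h6 h7 fun g hg => by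
        rw [mul_assoc, h.iv_inv hw (hK x' hx' hg), ← mul_assoc,
          h.iv_inv hv (hK x hx (inv_mem hg)), inv_inv, mul_assoc]⟩
  have h4 := h2 a ha v₀ hv₀
  generalize #{p ∈ F | v₀ • p = p} = φ at h3 h4
  rw [hn, show 1 + n + 1 - 1 = n + 1 by omega] at h3
  have h5 := h.t_sq
  have h6 : 0 < t := hT ▸ Nat.card_pos
  have hk0 := h.k_pos
  have hd : Even d := by_contra fun hd => by
    rw [if_neg hd, mul_zero, add_zero] at h4
    obtain rfl : φ = 1 := Nat.eq_of_mul_eq_mul_left hk0 (by omega)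
    have : (n + 1) * k ≤ (n + 1) * t := by linarith
    have := Nat.le_of_mul_le_mul_left this (by omega)
    have : 2 ≤ t := by omega
    nlinarith
  rw [if_pos hd] at h4
  have h7 : k ≤ t + t * φ := Nat.le_of_mul_le_mul_left (by linarith) (by omega : 0 < n + 1)
  obtain ⟨κ, rfl⟩ : t ∣ k := by
    rw [← hT, ← h.card_K a]
    exact Subgroup.card_dvd_of_le inf_le_left
  obtain ⟨δ, rfl⟩ : t ∣ d := by
    rw [← hT, ← h.hd a c hc]
    exact Subgroup.card_dvd_of_le (inf_le_inf_right _ fun g hg => h.K_fix hg)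
  have hto : ¬ Even t := fun e => h.odd_k (e.mul_right _)
  set H := stabilizer G a ⊓ stabilizer G F
  have mH : ∀ g : G, g • a = a → g • c ∈ F → ∀ w ∈ T, g * w * g⁻¹ ∈ T := fun g hg hgc w hw => by
    rw [← (hq a ha _ hgc (h.na_smul hg hc).1).2]
    exact ⟨h.K_norm hg hw.1, conj_fix.2 hw.2⟩
  have mH' : ∀ g : G, g • a = a → g • c ∈ F → g ∈ H := fun g hg hgc => by
    have a1 : T.map (MulAut.conj g).toMonoidHom = T := Subgroup.eq_of_le_of_card_ge
      (by rintro _ ⟨w, hw, rfl⟩; exact mH g hg hgc w hw)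
      (Subgroup.card_map_of_injective (MulAut.conj g).injective).ge
    refine ⟨hg, mem_stabilizer_finset'.2 fun p hp => mF.2 fun w hw => ?_⟩
    obtain ⟨w, hw', rfl⟩ := a1.ge hw
    exact conj_fix.2 (mF.1 hp hw')
  have h8 := card_orb H c (F.erase a) fun p => ⟨fun hp => by
      obtain ⟨g, a1, rfl⟩ := h.t2 a c a p hc
        (hq a ha p (mem_of_mem_erase hp) (ne_of_mem_erase hp).symm).1
      exact ⟨g, mH' g a1 (mem_of_mem_erase hp), rfl⟩, by
      rintro ⟨g, hg, rfl⟩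
      exact mem_erase.2 ⟨(h.na_smul hg.1 hc).1.symm, mem_stabilizer_finset'.1 hg.2 hcF⟩⟩
  have h9 := card_orb H b {p | adj a p} fun p => by
    rw [mem_filter_univ]
    refine ⟨fun hp => ?_, by rintro ⟨g, hg, rfl⟩; exact h.adj_smul hg.1 hb⟩
    obtain ⟨y, hy, rfl⟩ := (h.KK_spec a).2.2 b p hb hp
    refine ⟨y, mH' y (h.K_fix hy) ?_, rfl⟩
    have := h1 a ha v₀ hv₀ _ (h1 a ha _ (h.iv_mul hv₀ hy) c hcF)
    rwa [← mul_smul, ← mul_assoc, hv₀.1.2, one_mul] at this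
  rw [show H ⊓ stabilizer G c = S2 G a c from le_antisymm (inf_le_inf_right _ inf_le_left)
    fun g hg => ⟨mH' g hg.1 ((show g • c = c from hg.2).symm ▸ hcF), hg.2⟩, h.hd a c hc, ← h9,
    card_erase_of_mem ha, hn, h.hk, show 1 + n + 1 - 1 = n + 1 by omega] at h8
  set B : Finset X := {p | ∃ w ∈ T, w • b = p}
  have mB : ∀ {p}, p ∈ B ↔ ∃ w ∈ T, w • b = p := mem_filter_univ _
  have h10 := card_orb T b B fun _ => mB
  rw [show T ⊓ stabilizer G b = ⊥ from eq_bot_iff.2 fun g hg => h.K_semi hg.1.1 hb hg.2,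
    Subgroup.card_bot, mul_one, hT] at h10
  have h11 : ∀ p ∈ B, adj a p := fun p hp => by
    obtain ⟨w, hw, rfl⟩ := mB.1 hp
    exact h.adj_smul (h.K_fix hw.1) hb
  have h12 := card_mul_le (U := T) (V := H ⊓ stabilizer G b) (W := stabilizer G a ⊓ stabilizer G B)
    (fun g hg => ⟨h.K_fix hg.1, mem_stabilizer_finset'.2 fun p hp => by
      obtain ⟨w, hw, rfl⟩ := mB.1 hp
      exact mB.2 ⟨g * w, mul_mem hg hw, mul_smul _ _ _⟩⟩)
    (fun g hg => ⟨hg.1.1, mem_stabilizer_finset'.2 fun p hp => by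
      obtain ⟨w, hw, rfl⟩ := mB.1 hp
      exact mB.2 ⟨_, mH g hg.1.1 (mem_stabilizer_finset'.1 hg.1.2 hcF) w hw, by
        rw [mul_smul, mul_smul, inv_smul_eq_iff.2 (show b = g • b from hg.2.symm)]⟩⟩)
    fun g h12 h13 => h.K_semi h12.1 hb h13.2
  have h13 := card_dvd_pts (stabilizer G a ⊓ stabilizer G B) (filter (adj a) univ \ B)
    (fun g hg p hp => by
      rw [mem_sdiff, mem_filter_univ] at hp ⊢
      exact ⟨h.adj_smul hg.1 hp.1, fun e => hp.2 ((mem_stabilizer_finset.1 hg.2 p).1 e)⟩)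
    fun g hg p hp e => by
      rw [mem_sdiff, mem_filter_univ] at hp
      by_cases hgK : g ∈ KK G adj a
      · exact h.K_semi hgK hp.1 e
      obtain ⟨q, h13, h14⟩ := h.fix_mem hg.1 hgK h11 hg.2 (h10 ▸ dvd_mul_right _ _)
      exact h.frob g a p q hp.1 (h11 q h13) (fun e => hp.2 (e ▸ h13)) hg.1 e h14
  rw [card_sdiff_of_subset fun p hp => (mem_filter_univ _).2 (h11 p hp), h.hk, h10] at h13
  have h14 : t ≤ κ := Nat.le_of_mul_le_mul_left h5 h6
  have h15 : 3 ≤ t := by rw [Nat.even_iff] at hto; omega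
  have h16 := h12.trans (Nat.le_of_dvd (Nat.sub_pos_of_lt (by nlinarith)) h13)
  rw [hT] at h16
  generalize Nat.card ↥(H ⊓ stabilizer G b) = ε at h8 h16
  have b1 : κ * φ = κ + (n + 1) := Nat.eq_of_mul_eq_mul_left h6 (by linarith)
  have b2 : (n + 1) * δ = κ * ε := Nat.eq_of_mul_eq_mul_left h6 (by linarith)
  have b3 : ε + 1 ≤ κ := Nat.le_of_mul_le_mul_left
    (by have := Nat.le_sub_iff_add_le (by nlinarith : t ≤ t * κ) |>.1 h16; linarith) h6
  have b4 : κ ≤ 1 + φ := Nat.le_of_mul_le_mul_left (by linarith) h6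
  have b5 : 2 ≤ δ := by
    have := h.d_pos
    have : Even δ := (Nat.even_mul.1 hd).resolve_left hto
    rw [Nat.even_iff] at this
    rcases δ with _ | _ | _ <;> omega
  obtain ⟨s, rfl⟩ : ∃ s, φ = s + 2 := ⟨φ - 2, by omega⟩
  have b6 : (s + 1) * δ = ε := Nat.eq_of_mul_eq_mul_left (by omega : 0 < κ) (by
    rw [← b2, show n + 1 = κ * (s + 1) by linarith]; ring)
  obtain rfl : s = 0 := by nlinarith
  obtain rfl : κ = 3 := by omega
  obtain rfl : t = 3 := by omega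
  obtain rfl : δ = 2 := by omega
  obtain ⟨m, c1, c2, c3⟩ := h.exists_m
  have c4 := h.mu_lt
  obtain rfl : m = 1 := by omega
  have c5 := h.ke
  have c6 := h.k_lt
  have c7 := h.e_lam
  have c8 : lam ≠ 0 := fun h0 => by
    obtain ⟨c', c8, c9⟩ := h.ex_c2 hc
    have := h.half h0 (S := {p | adj a p}) c9
    rw [filter_filter, filter_filter, h.hmu a c hc, h.hmu a c' c8, h.hk] at this
    omega
  have := Nat.le_of_dvd (by omega) c7
  rw [Nat.even_iff] at he
  omega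

end Nm

end H24.Rk
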