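import Cfsg.Agent.Lib.Rk3F.R6

/-! The case of a semiregular kernel of odd order: counting lemmas. -/

set_option autoImplicit false
set_option linter.unusedSectionVars false
set_option linter.style.haveILetI false

namespace H24.Rk

open Finset MulAction
open scoped Classical Pointwise

variable {G X : Type*} [Group G] [Fintype G] [Fintype X] [MulAction G X] {adj : X → X → Prop}
  {k l lam mu e d t : ℕ}

theorem dbl (S : Finset G) (r : G → X → Prop) [∀ v x, Decidable (r v x)] :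
    ∑ v ∈ S, #{x | r v x} = ∑ x, #{v ∈ S | r v x} :=
  sum_card_bipartiteAbove_eq_sum_card_bipartiteBelow r

theorem num {c d r b p q : ℕ} (hd : Even d) (hc : 2 ≤ c) (h1 : r * (r + d) + d = c * d + 1)
    (h2 : p + q = c + 1) (h3 : p * r + (c * d + 1) = q * (r + d) + c * (d * b)) (h4 : 2 * b < c)
    (h5 : c ≤ 4 * b + 2) : r = 1 := by
  by_contra hr
  obtain ⟨δ, rfl⟩ := hd
  have h6 : r ≠ 0 := by rintro rfl; nlinarith
  have h7 : r + 1 < c := by
    by_contra h7
    have : 2 ≤ r := by omega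
    nlinarith
  obtain ⟨θ, rfl⟩ := Nat.exists_eq_add_of_lt h7
  have h8 : r * r = (θ + 1) * (δ + δ) + 1 := by linarith
  have h9 : ¬ Even r := fun e => by
    have := e.mul_right r
    rw [h8, Nat.even_add_one] at this
    exact this (Even.mul_left ⟨δ, rfl⟩ _)
  rw [Nat.even_iff] at h9
  by_cases h10 : r = 3
  · subst h10
    have : δ ≠ 0 := by rintro rfl; omega
    have : δ ≤ 4 := by nlinarith
    interval_cases δ
    · omega
    · obtain rfl : θ = 3 := by omega
      omega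
    · obtain rfl : θ = 1 := by omega
      omega
    · omega
    · obtain rfl : θ = 0 := by omega
      omega
  obtain ⟨ρ, rfl⟩ : ∃ ρ, r = ρ + 5 := ⟨r - 5, by omega⟩
  have a1 : p * (ρ + 5) ≤ (ρ + 5 + 1 + θ + 1 + 1) * (ρ + 5) := Nat.mul_le_mul_right _ (by omega)
  have a2 := Nat.mul_le_mul_left ((ρ + 5 + 1 + θ + 1) * (δ + δ)) h5
  have a3 : (ρ + 5 + 1 + θ + 1) * ((θ + 1) * (δ + δ)) ≤
      4 * ((ρ + 5 + 1 + θ + 1 + 1) * (ρ + 5)) + 4 := by
    nlinarith [Nat.zero_le (q * (ρ + 5 + (δ + δ))), Nat.zero_le ((ρ + 5 + 1 + θ + 1) * ρ * δ)]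
  rw [show (θ + 1) * (δ + δ) = ρ * ρ + 10 * ρ + 24 by linarith] at a3
  nlinarith [Nat.zero_le (ρ * ρ * ρ), Nat.zero_le (θ * ρ * ρ), Nat.zero_le (θ * ρ),
    Nat.zero_le (ρ * ρ)]

namespace Nm

variable (h : Nm G adj k l lam mu e d t)
include h

theorem zz_conj {a : X} {v w : G} (hv : Iv a v) (hw : w ∈ ZZ G X) : ∃ g : G, g * v * g⁻¹ = w := by
  obtain ⟨h1, x, h2⟩ := mem_ZZ.1 hw
  obtain ⟨g, rfl⟩ := h.tr a x
  obtain ⟨y, -, rfl⟩ := h.iv_conj (hv.conj g) ⟨h1, h2⟩
  exact ⟨y * g, by simp [mul_assoc]⟩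

theorem exists_bb : ∃ bb, ∀ x z, NA adj x z → #{y | y ∈ KK G adj x ∧ adj z (y • z)} = bb := by
  obtain ⟨a, b, c, -, -, hc⟩ := h.c1
  refine ⟨#{y | y ∈ KK G adj a ∧ adj c (y • c)}, fun x z hz => ?_⟩
  obtain ⟨g, rfl, rfl⟩ := h.t2 a c x z hc hz
  exact (card_bijective (MulAut.conj g) (MulAut.conj g).bijective fun w => by
    simp [h.K_conj g (g := w), mul_smul, h.inv]).symm

theorem no_tri (h0 : lam = 0) {x y z : X} (h1 : adj x y) (h2 : adj x z) : ¬ adj y z := fun h3 =>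
  filter_eq_empty_iff.1 (card_eq_zero.1 ((h.hlam x y h1).trans h0)) (mem_univ z) ⟨h2, h3⟩

theorem sum_al (h0 : lam = 0) {a : X} (S : Finset G) (hS : ∀ v ∈ S, v • a = a) {bb : ℕ}
    (hb : ∀ z, NA adj a z → #{v ∈ S | adj z (v • z)} = bb) :
    ∑ v ∈ S, #{x | adj x (v • x)} = l * bb := by
  rw [dbl, h.sum_const' a _ (fun y hy => card_eq_zero.2 (filter_eq_empty_iff.2 fun v hv =>
    h.no_tri h0 hy (h.adj_smul (hS v hv) hy))) hb,
    card_eq_zero.2 (filter_eq_empty_iff.2 fun v hv => by rw [hS v hv]; exact h.irr a)]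
  simp

theorem spec_nat {r σ : ℕ} (h1 : r + mu = lam + σ) (h2 : r * σ + mu = k) :
    (r : ℂ) ≠ -σ ∧ (r : ℂ) + -σ = lam - mu ∧ (r : ℂ) * -σ = mu - k := by
  refine ⟨fun e => ?_, ?_, ?_⟩
  · have : r + σ = 0 := by exact_mod_cast eq_neg_iff_add_eq_zero.1 e
    have := h.mu_lt
    obtain rfl : r = 0 := by omega
    omega
  · have : (r : ℂ) + mu = lam + σ := by exact_mod_cast h1
    linear_combination this
  · have : (r : ℂ) * σ + mu = k := by exact_mod_cast h2
    linear_combination -this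

theorem spec_one' {r σ : ℕ} (h1 : r + mu = lam + σ) (h2 : r * σ + mu = k) :
    ∃ p q : ℕ, p + q = k + l ∧ p * r + k = q * σ := by
  obtain ⟨a1, a2, a3⟩ := h.spec_nat h1 h2
  obtain ⟨p, q, h3, h4⟩ := h.spec_one a1 a2 a3
  exact ⟨p, q, h3, by exact_mod_cast (by linear_combination h4 : (p : ℂ) * r + k = q * σ)⟩

end Nm

namespace Nm

variable (h : Nm G adj k l lam mu e d 1)
include h

theorem fix_zz (he : Even e) {c : ℕ} (hc : l = k * c) {v : G} (hv : v ∈ ZZ G X) :
    #{x : X | v • x = x} = 2 + c * if Even d then 1 else 0 := by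
  obtain ⟨h1, a, h2⟩ := mem_ZZ.1 hv
  have := h.fix_count he ⟨h1, h2⟩ univ (by simp)
  rw [h.sum_const' a _ (fun y hy => h.iv_adj he hy) fun y hy => h.iv_na hy] at this
  refine Nat.eq_of_mul_eq_mul_left h.k_pos (this.trans ?_)
  rw [show #{w : G | Iv a w ∧ w • a = a} = k from h.iv_self he a ▸
    congrArg _ (filter_congr fun _ _ => and_iff_left_of_imp And.right), hc]
  ring

theorem spec_K (h0 : lam = 0) {r σ c bb : ℕ} (h1 : r + mu = lam + σ) (h2 : r * σ + mu = k)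
    (hc : l = k * c) (hb : ∀ x z, NA adj x z → #{y | y ∈ KK G adj x ∧ adj z (y • z)} = bb) :
    ∃ p q : ℕ, p + q = c + 1 ∧ p * r + k = q * σ + c * bb := by
  obtain ⟨a1, a2, a3⟩ := h.spec_nat h1 h2
  obtain ⟨a⟩ := h.pt
  obtain ⟨p, q, h3, h4⟩ := h.spec' a1 a2 a3 (KK G adj a) 1
  have h5 := h.sum_al h0 {y | y ∈ KK G adj a} (fun v hv => h.K_fix (mem_filter.1 hv).2)
    fun z hz => by rw [filter_filter, hb a z hz]
  have h6 := dbl {y | y ∈ KK G adj a} fun v (x : X) => v • x = x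
  have h7 : ∀ x : X, #{v ∈ ({y | y ∈ KK G adj a} : Finset G) | v • x = x} =
      Nat.card ↥(KK G adj a ⊓ stabilizer G x) := fun x => by
    rw [card_sub, filter_filter]
    exact congrArg _ (filter_congr fun _ _ => Iff.rfl)
  rw [h.sum_const' a _ (a := 1) (b := 1) (fun y hy => by
      rw [h7, show KK G adj a ⊓ stabilizer G y = ⊥ from
        eq_bot_iff.2 fun g hg => h.K_semi hg.1 hy hg.2, Subgroup.card_bot])
    fun y hy => (h7 y).trans (h.ht a y hy), h7,
    inf_eq_left.2 (show KK G adj a ≤ stabilizer G a from fun g hg => h.K_fix hg), h.card_K] at h6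
  rw [sum_subtype (p := (· ∈ KK G adj a)) _ mem_filter_univ] at h5 h6
  simp only [MonoidHom.one_apply, one_mul, sum_const, card_univ, nsmul_eq_mul, mul_one,
    ← Nat.card_eq_fintype_card, h.card_K, ← Nat.cast_sum] at h3 h4
  rw [h5, hc] at h4
  rw [h6, hc] at h3
  have hk : (k : ℂ) ≠ 0 := Nat.cast_ne_zero.2 h.k_pos.ne'
  push_cast at h3 h4
  exact ⟨p, q, by exact_mod_cast mul_left_cancel₀ hk (by linear_combination h3 :
      (k : ℂ) * (p + q) = k * (c + 1)), by exact_mod_cast mul_left_cancel₀ hk (by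
    linear_combination h4 : (k : ℂ) * (p * r + k) = k * (q * σ + c * bb))⟩

theorem d_bb {bb : ℕ} (hb : ∀ x z, NA adj x z → #{y | y ∈ KK G adj x ∧ adj z (y • z)} = bb) :
    d ∣ bb := by
  obtain ⟨a, b, z, -, -, hz⟩ := h.c1
  rw [← h.hd a z hz, ← hb a z hz]
  refine card_dvd_conj _ _ (fun g hg y hy => ?_) fun g hg y hy e => ?_ <;> rw [mem_filter_univ] at *
  · refine ⟨h.K_norm hg.1 hy.1, ?_⟩
    rw [mul_smul, mul_smul, show g⁻¹ • z = z from (inv_mem hg).2]
    exact h.adj_smul hg.2 hy.2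
  · by_contra hc
    rw [h.F1 hg.1 (fun e => hc (h.T_bot hz e hg.2)) hy.1 e, one_smul] at hy
    exact h.irr z hy.2

theorem bb_le (h0 : lam = 0) {bb : ℕ}
    (hb : ∀ x z, NA adj x z → #{y | y ∈ KK G adj x ∧ adj z (y • z)} = bb) :
    2 * bb ≤ k ∧ (2 * bb + 1 = k → bb ≤ mu + 1) := by
  obtain ⟨a, b, z, -, -, hz⟩ := h.c1
  set O : Finset X := {p | ∃ y ∈ KK G adj a, y • z = p}
  have mO : ∀ {p}, p ∈ O ↔ ∃ y ∈ KK G adj a, y • z = p := mem_filter_univ _
  have h1 := card_orb (KK G adj a) z O fun _ => mO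
  rw [h.ht a z hz, mul_one, h.card_K] at h1
  have h2 : ∀ p ∈ O, #{q ∈ O | adj p q} = bb := fun p hp => by
    obtain ⟨y, hy, rfl⟩ := mO.1 hp
    have h2 := h.na_smul (h.K_fix hy) hz
    rw [← hb a _ h2]
    refine (card_bij (fun w _ => w • y • z) (fun w hw => ?_) (fun w hw w' hw' e => ?_)
      fun q hq => ?_).symm
    · rw [mem_filter_univ] at hw
      exact mem_filter.2 ⟨mO.2 ⟨_, mul_mem hw.1 hy, mul_smul _ _ _⟩, hw.2⟩
    · rw [mem_filter_univ] at hw hw'
      exact (inv_mul_eq_one.1 (h.T_bot h2 (mul_mem (inv_mem hw'.1) hw.1)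
        (by rw [mul_smul, e, inv_smul_smul]))).symm
    · obtain ⟨h3, h4⟩ := mem_filter.1 hq
      obtain ⟨w, hw, rfl⟩ := mO.1 h3
      exact ⟨w * y⁻¹, by simpa [mul_smul, h4] using mul_mem hw (inv_mem hy), by simp [mul_smul]⟩
  have hzO : z ∈ O := mO.2 ⟨1, one_mem _, one_smul _ _⟩
  refine ⟨?_, fun h3 => ?_⟩
  · rcases Nat.eq_zero_or_pos bb with rfl | h3
    · simp
    obtain ⟨q, hq⟩ := card_pos.1 (h2 z hzO ▸ h3)
    have := h.half h0 (S := O) (mem_filter.1 hq).2
    rw [h2 z hzO, h2 q (mem_filter.1 hq).1] at this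
    omega
  have h4 := paths adj h.symm z O O
  rw [sum_congr rfl fun p hp => h2 p (mem_filter.1 hp).1, sum_const, h2 z hzO,
    ← add_sum_erase _ _ hzO, ← sum_filter_add_sum_filter_not _ (adj z),
    sum_eq_zero fun y hy => card_eq_zero.2 (filter_eq_empty_iff.2 fun p _ hp =>
      h.no_tri h0 (mem_filter.1 hy).2 hp.1 hp.2)] at h4
  have h5 := sum_le_card_nsmul {y ∈ O.erase z | ¬ adj z y}
    (fun y => #{P ∈ O | adj z P ∧ adj y P}) mu fun y hy => by
      rw [← h.hmu z y ⟨(ne_of_mem_erase (mem_filter.1 hy).1).symm, (mem_filter.1 hy).2⟩]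
      exact card_le_card (filter_subset_filter _ (subset_univ _))
  have h6 := card_filter_add_card_filter_not (s := O.erase z) (adj z)
  rw [filter_erase, erase_eq_of_notMem fun e => h.irr z (mem_filter.1 e).2, h2 z hzO,
    card_erase_of_mem hzO, h1] at h6
  simp only [and_self, h2 z hzO, smul_eq_mul] at h4 h5
  rw [show #{y ∈ O.erase z | ¬ adj z y} = bb by omega] at h5
  rcases Nat.eq_zero_or_pos bb with rfl | h7
  · simp
  exact Nat.le_of_mul_le_mul_left (by linarith) h7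

theorem alpha (he : Even e) (hd : Even d) (h0 : lam = 0) {c bb β f : ℕ} (hc : l = k * c)
    (hb : ∀ x z, NA adj x z → #{y | y ∈ KK G adj x ∧ adj z (y • z)} = bb)
    (h1 : ∀ x y, adj x y → bt G x y = β) (h2 : #(ZZ G X) * f = (1 + k + l) * k) :
    f * β = c * bb := by
  obtain ⟨a, b, -, hab, -⟩ := h.c1
  obtain ⟨v, hv, -⟩ := h.ex_iv he hab
  have h3 : ∀ w ∈ ZZ G X, #{x : X | adj x (w • x)} = #{x : X | adj x (v • x)} := fun w hw => by
    obtain ⟨g, rfl⟩ := h.zz_conj hv hw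
    exact (card_smul g fun x => by rw [mul_smul, mul_smul, inv_smul_smul, h.inv]).symm
  have h4 := h.sum_al h0 {w | Iv a w} (fun w hw => (mem_filter.1 hw).2.2) (bb := bb) fun z hz => by
    obtain ⟨u, h4, h5⟩ := exists_inv (S2 G a z) (h.hd a z hz ▸ hd.two_dvd)
    have hu : Iv a u := ⟨h5, h4.1⟩
    rw [← hb a z hz, filter_filter]
    refine card_bijective (· * u) (Group.mulRight_bijective u) fun w => ?_
    rw [mem_filter_univ, mem_filter_univ, mul_smul, show u • z = z from h4.2]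
    refine and_congr_left' ⟨fun hw => h.iv_mem hw hu, fun hw => ?_⟩
    have := h.iv_mul hu (inv_mem hw)
    rwa [h.iv_inv hu (inv_mem hw), inv_inv, mul_assoc, h5.2, mul_one] at this
  rw [sum_congr rfl fun w hw => h3 w (mem_ZZ.2 ⟨(mem_filter.1 hw).2.1, a, (mem_filter.1 hw).2.2⟩),
    sum_const, h.iv_self he, hc, smul_eq_mul, mul_assoc, Nat.mul_right_inj h.k_pos.ne'] at h4
  have h5 := dbl (ZZ G X) fun w (x : X) => adj x (w • x)
  rw [sum_congr rfl h3, sum_congr (s₁ := univ) rfl (g := fun _ => k * β) fun x _ => by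
    rw [card_eq_sum_card_fiberwise (f := (· • x)) (t := {y | adj x y})
      fun w hw => by simpa using (mem_filter.1 hw).2, ← h.hk x, ← smul_eq_mul, ← sum_const]
    refine sum_congr rfl fun y hy => ?_
    rw [← h1 x y (mem_filter.1 hy).2, bt, filter_filter]
    exact congrArg _ (filter_congr fun w _ => and_iff_right_of_imp fun e =>
      e ▸ (mem_filter.1 hy).2), sum_const, sum_const, h4, card_univ, h.card_X, smul_eq_mul,
    smul_eq_mul] at h5
  have := h.k_pos
  refine Nat.eq_of_mul_eq_mul_left (by positivity : 0 < (1 + k + l) * k) ?_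
  calc _ = f * ((1 + k + l) * (k * β)) := by ring
    _ = _ := by rw [← h5, ← h2]; ring

end Nm

end H24.Rk
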