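import Cfsg.Agent.Lib.Rk3F.R7

/-! The parameters. -/

set_option autoImplicit false
set_option linter.unusedSectionVars false
set_option linter.style.haveILetI false

namespace H24.Rk

open Finset MulAction
open scoped Classical Pointwise

variable {G X : Type*} [Group G] [Fintype G] [Fintype X] [MulAction G X] {adj : X → X → Prop}
  {k l lam mu e d t : ℕ}

theorem num₁ {c d w m k lam β₁ β₂ r σ : ℕ} (hd : Even d) (d0 : 0 < d) (c2 : 2 ≤ c) (m0 : 0 < m)
    (mw : m ≤ w) (hw : k = c * d * w + 1) (hm : 1 + lam + c * d * m = k) (h1 : β₁ ≤ c * d)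
    (h2 : β₂ ≤ d) (h8 : (1 + β₁ + c * β₂) * (2 + c) = 1 + k + k * c) (e1 : r + d * m = lam + σ)
    (e2 : r * σ + d * m = k) : lam = 0 ∧ m = w := by
  have cd0 : 0 < c * d := by positivity
  have h9 := Nat.mul_le_mul_left (2 + c) (Nat.add_le_add h1 (Nat.mul_le_mul_left c h2))
  have w2 : w ≤ 2 := by
    have : (c + 1) * w ≤ 2 * (c + 2) := Nat.le_of_mul_le_mul_left (by subst hw; linarith) cd0
    nlinarith
  suffices h0 : lam = 0 from ⟨h0, Nat.eq_of_mul_eq_mul_left cd0 (by omega)⟩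
  by_contra h0
  have : m ≠ w := by rintro rfl; omega
  obtain rfl : m = 1 := by omega
  obtain rfl : w = 2 := by omega
  obtain ⟨c, rfl⟩ := Nat.exists_eq_add_of_le c2
  obtain rfl : r = (c + 1) * d + σ := by linarith
  rw [Nat.even_iff] at hd
  clear h8 h9 h1 h2
  rcases σ with _ | _ | _ | σ
  · nlinarith
  · nlinarith
  · have : d = 3 := by linarith
    omega
  · nlinarith [Nat.zero_le (c * d), Nat.zero_le (c * d * σ), Nat.zero_le (d * σ)]

theorem num₂ {c d m b β : ℕ} (d0 : 0 < d) (h2 : β ≤ d) (h4 : d * b + (2 + c) * β = m * d * (1 + c))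
    (h5 : 2 * (d * b) < c * d * m) (m0 : 0 < m) : m = 1 ∧ 2 * b < c ∧ d < 2 * β ∧ β < d := by
  have b8 : m * d < 2 * β := Nat.lt_of_mul_lt_mul_left (a := 2 + c) (by linarith)
  obtain rfl : m = 1 := by nlinarith
  exact ⟨rfl, Nat.lt_of_mul_lt_mul_left (a := d) (by linarith), by omega,
    Nat.lt_of_mul_lt_mul_left (a := 2 + c) (by nlinarith)⟩

namespace Nm

variable (h : Nm G adj k l lam mu e d 1)
include h

theorem beta (hd : Even d) {β : ℕ} (h1 : ∀ x y, NA adj x y → bt G x y = β) (h2 : d < 2 * β)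
    (h3 : β < d) : 4 * β ≤ 3 * d ∧ d ≠ 4 := by
  obtain ⟨a, -, z, -, -, hz⟩ := h.c1
  obtain ⟨v, hv⟩ := card_pos.1 (show 0 < bt G a z by rw [h1 a z hz]; omega)
  obtain ⟨hv, hva⟩ := mem_filter.1 hv
  have v2 := (mem_ZZ.1 hv).1.2
  have hvz : v • z = a := by rw [← hva, ← mul_smul, v2, one_smul]
  set D := S2 G a z
  have hD : Nat.card D = d := h.hd a z hz
  set B : Finset G := {x | x ∈ D ∧ v * x ∈ ZZ G X}
  have mB : ∀ {x}, x ∈ B ↔ x ∈ D ∧ v * x ∈ ZZ G X := mem_filter_univ _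
  have hB : #B = β := by
    rw [← h1 a z hz, bt]
    refine card_bijective (v * ·) (Group.mulLeft_bijective v) fun x => ?_
    rw [mB, mem_filter, and_comm]
    refine and_congr_right fun hx => ⟨fun h4 => by rw [mul_smul, show x • a = a from h4.1, hva],
      fun h4 => ⟨?_, ?_⟩⟩
    · exact MulAction.injective v ((mul_smul v x a).symm.trans (h4.trans hva.symm))
    · refine MulAction.injective v ((mul_smul v x z).symm.trans (.trans ?_ hvz.symm))
      rw [← h4, ← mul_smul, (mem_ZZ.1 hx).1.2, one_smul]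
  have h4 : ∀ x ∈ B, v * x = x⁻¹ * v := fun x hx => by
    have := (mem_ZZ.1 (mB.1 hx).2).1.2
    rwa [mul_eq_one_iff_eq_inv, mul_inv_rev, inv_eq_of_mul_eq_one_right v2] at this
  have hs : B ⊆ filter (· ∈ D) univ := monotone_filter_right _ fun _ _ => And.left
  have key : ¬ ∀ x ∈ D, ∀ y ∈ D, x * y = y * x := fun hc => by
    have a1 : ∀ y ∈ D, v * y = y⁻¹ * v := fun y hy => by
      obtain ⟨x, hx0⟩ := inter_nonempty_of_card_lt_card_add_card hs (u := B.image (y * ·))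
        (fun x hx => by
          obtain ⟨x, hx', rfl⟩ := mem_image.1 hx
          exact (mem_filter_univ _).2 (mul_mem hy (mB.1 hx').1))
        (by rw [card_image_of_injective _ (mul_right_injective y), ← card_sub]; omega)
      obtain ⟨a1, a2⟩ := mem_inter.1 hx0
      obtain ⟨x, hx, rfl⟩ := mem_image.1 a2
      have a3 := h4 _ a1
      rw [hc y hy x (mB.1 hx).1, ← mul_assoc, h4 x hx, ← hc y hy x (mB.1 hx).1, mul_inv_rev,
        mul_assoc, mul_assoc] at a3
      exact mul_left_cancel a3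
    obtain ⟨y, hy, hy'⟩ := exists_mem_notMem_of_card_lt_card (s := B) (t := {x | x ∈ D})
      (by rw [← card_sub]; omega)
    rw [mem_filter_univ] at hy
    have a2 := card_le_mul_card_image_of_maps_to (s := {x | x ∈ D}) (t := filter (· ∈ D) univ \ B)
      (f := fun x => y * (x * x)) (fun x hx => by
        rw [mem_filter_univ] at hx
        refine mem_sdiff.2 ⟨(mem_filter_univ _).2 (mul_mem hy (mul_mem hx hx)), fun e => hy' ?_⟩
        have := (ZZ_conj x).2 (mB.1 e).2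
        rw [← mul_assoc x, ← inv_inv x, ← a1 _ (inv_mem hx), inv_inv, mul_assoc v, mul_assoc v,
          ← mul_assoc x⁻¹, hc _ (inv_mem hx) y hy] at this
        exact mB.2 ⟨hy, by simpa [mul_assoc] using this⟩) 2 fun s _ => by
      rcases ({x ∈ ({x | x ∈ D} : Finset G) | y * (x * x) = s}).eq_empty_or_nonempty with e | ⟨x, hx⟩
      · simp [e]
      have a2 := h.iv_na hz
      rw [if_pos hd] at a2
      refine (card_le_card_of_injOn (x⁻¹ * ·) (fun w hw => ?_) (mul_right_injective _).injOn).trans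
        ((card_insert_le 1 _).trans (congrArg (· + 1) a2).le)
      simp only [coe_filter, mem_filter, mem_univ, true_and, Set.mem_ofPred_eq] at hx hw
      have a3 := mul_mem (inv_mem hx.1) hw.1
      rw [mem_coe, mem_insert, mem_filter_univ, or_iff_not_imp_left]
      refine fun e => ⟨⟨⟨e, ?_⟩, a3.1⟩, a3.2⟩
      rw [mul_assoc, ← mul_assoc w, hc w hw.1 _ (inv_mem hx.1), mul_assoc,
        mul_left_cancel (hw.2.trans hx.2.symm)]
      simp
    rw [card_sdiff_of_subset hs, ← card_sub] at a2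
    omega
  refine ⟨not_lt.1 fun h5 => key fun x hx y hy => ?_, fun h5 => key fun x hx y hy => ?_⟩
  · have a1 : ∀ x ∈ D, v * x * v⁻¹ ∈ D := fun x hx =>
      ⟨hvz ▸ conj_fix.2 hx.2, hva ▸ conj_fix.2 hx.1⟩
    refine congrArg Subtype.val (comm_of_inv (D := D)
      (((MulAut.conj v).toMonoidHom.comp D.subtype).codRestrict D fun x => a1 x x.2) ?_ ⟨x, hx⟩ ⟨y, hy⟩)
    rw [← Nat.card_eq_fintype_card, hD]
    refine h5.trans_le (Nat.mul_le_mul_left _ (hB ▸ (card_le_card fun x hx => ?_).trans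
      (card_image_le (f := Subtype.val))))
    exact mem_image.2 ⟨⟨x, (mB.1 hx).1⟩, by
      simp only [mem_filter, mem_univ, true_and]
      exact Subtype.ext (mul_inv_eq_iff_eq_mul.2 (h4 x hx)), rfl⟩
  · exact congrArg Subtype.val ((IsPGroup.isMulCommutative_of_card_eq_prime_sq (p := 2)
      (hD.trans h5)).is_comm.comm ⟨x, hx⟩ ⟨y, hy⟩)

theorem data (he : Even e) {c : ℕ} (hl : l = k * c) : ∃ w m β₁ β₂, 0 < m ∧ m ≤ w ∧ k = e * w + 1 ∧
    mu = d * m ∧ 1 + lam + e * m = k ∧ β₁ ≤ e ∧ β₂ ≤ d ∧ (∀ x y, adj x y → bt G x y = β₁) ∧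
    (∀ x y, NA adj x y → bt G x y = β₂) ∧
    #(ZZ G X) * (2 + c * if Even d then 1 else 0) = (1 + k + l) * k ∧
    (1 + β₁ + c * β₂) * (2 + c * if Even d then 1 else 0) = 1 + k + k * c := by
  obtain ⟨β₁, β₂, h1, h2, h3, h4, h5⟩ := h.glob
  obtain ⟨a⟩ := h.pt
  obtain ⟨h6, h7⟩ := h5 _ (fun v hv => h.fix_zz he hl hv) a
  rw [bt_self, h.iv_self he] at h6 h7
  obtain ⟨w, w0, hw⟩ := h.exists_w
  obtain ⟨m, m0, hm, hm'⟩ := h.exists_m
  exact ⟨w, m, β₁, β₂, m0, Nat.le_of_mul_le_mul_left (by omega) (zero_lt_two.trans_le h.two_le_e),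
    hw, hm, hm', h1, h2, h3, h4, h6, Nat.eq_of_mul_eq_mul_left h.k_pos (by
      rw [← hl, mul_comm k (1 + k + l), ← h6, h7, hl]; ring)⟩

theorem case2b (he : Even e) (hd : ¬ Even d) : k = 3 ∧ l = 6 ∧ e = 2 := by
  obtain ⟨c, c2, hl, rfl⟩ := h.exists_c
  obtain ⟨w, m, β₁, β₂, m0, mw, hw, rfl, hm, h1, h2, -, -, -, h8⟩ := h.data he hl
  have d0 := h.d_pos
  have h9 := Nat.mul_le_mul_left c h2
  rw [if_neg hd, hw] at h8
  have : (c + 1) * w < 4 := Nat.lt_of_mul_lt_mul_left (a := c * d) (by linarith)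
  have := Nat.even_iff.1 ((Nat.even_mul.1 he).resolve_right hd)
  obtain rfl : c = 2 := by
    have : c < 3 := by nlinarith
    omega
  obtain rfl : w = 1 := by omega
  obtain rfl : m = 1 := by omega
  obtain ⟨p, q, a1, a2⟩ := h.spec_one' (r := 1) (σ := d + 1) (by omega) (by omega)
  have : q < 8 := by nlinarith
  rw [Nat.even_iff] at hd
  interval_cases q <;> omega

theorem case2c (he : Even e) (hd : Even d) : k = 5 ∧ l = 10 ∧ e = 4 := by
  obtain ⟨c, c2, hl, rfl⟩ := h.exists_c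
  obtain ⟨w, m, β₁, β₂, m0, mw, hw, rfl, hm, h1, h2, h3, h4, h6, h8⟩ := h.data he hl
  have d0 := h.d_pos
  have k0 := h.k_pos
  rw [if_pos hd, mul_one] at h6 h8
  obtain ⟨r, σ, e1, e2⟩ := h.eig (by nlinarith)
  obtain ⟨h0, rfl⟩ := num₁ hd d0 c2 m0 mw hw hm h1 h2 h8 e1 e2
  obtain ⟨bb, hb⟩ := h.exists_bb
  have b1 := h.alpha he hd h0 hl hb h3 h6
  obtain ⟨b2, b3⟩ := h.bb_le h0 hb
  obtain ⟨b, rfl⟩ := h.d_bb hb
  have b4 : d * b + (2 + c) * β₂ = m * d * (1 + c) :=
    Nat.eq_of_mul_eq_mul_left (by omega : 0 < c) (by rw [hw] at h8; linarith)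
  have b5 : 2 * (d * b) ≠ k := fun e => h.odd_k (e ▸ even_two_mul _)
  have d2 : 2 ≤ d := by rw [Nat.even_iff] at hd; omega
  by_cases b6 : 2 * (d * b) + 1 = k
  · have b7 := b3 b6
    have b8 : 2 * b = c * m := Nat.eq_of_mul_eq_mul_left d0 (by linarith)
    have b9 : b < m + 1 := Nat.lt_of_mul_lt_mul_left (a := d) (by linarith)
    obtain rfl : c = 2 := le_antisymm (Nat.le_of_mul_le_mul_right (by omega) m0) c2
    obtain ⟨p, q, a1, a2⟩ := h.spec_K h0 (r := 1) (σ := d * m + 1) (by omega) (by linarith) hl hb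
    have a3 := Nat.le_mul_of_pos_right d m0
    have : q ≤ 3 := by omega
    have : d * m = 2 := by interval_cases q <;> omega
    obtain rfl : d = 2 := by omega
    omega
  exfalso
  obtain ⟨rfl, b7, b8, b9⟩ := num₂ d0 h2 b4 (show 2 * (d * b) < c * d * m by omega) m0
  obtain ⟨b9, b10⟩ := h.beta hd h4 b8 b9
  obtain ⟨p, q, a1, a2⟩ := h.spec_K h0 e1 e2 hl hb
  obtain rfl : σ = r + d := by omega
  have b11 : c ≤ 4 * b + 2 := Nat.le_of_mul_le_mul_left
    (by linarith [Nat.mul_le_mul_left (2 + c) b9]) d0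
  obtain rfl := num (r := r) (q := q) hd c2 (by omega) a1 (by omega) b7 b11
  obtain rfl : c = 2 := Nat.eq_of_mul_eq_mul_right d0 (by omega)
  obtain rfl : b = 0 := by omega
  obtain ⟨p, q, a1, a2⟩ := h.spec_one' e1 e2
  have : q < 8 := Nat.lt_of_mul_lt_mul_right (a := d + 2) (by linarith)
  interval_cases q <;> omega

end Nm

theorem R3.params (h : R3 G adj) (hG : Even (Nat.card G)) :
    (Nat.card G = 60 ∧ Fintype.card X = 10) ∨
      ((Nat.card G = 576 ∨ Nat.card G = 320) ∧ Fintype.card X = 16) := by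
  obtain ⟨k, l, lam, mu, e, d, t, h⟩ := h.exists_Nm
  have he := (h.parity hG).resolve_left h.odd_k
  rw [h.card_G, h.card_X]
  by_cases ht : t = 1
  · subst ht
    by_cases hd : Even d
    · obtain ⟨rfl, rfl, rfl⟩ := h.case2c he hd
      simp
    · obtain ⟨rfl, rfl, rfl⟩ := h.case2b he hd
      simp
  · obtain ⟨rfl, rfl, rfl⟩ := h.case2a he ht
    simp

end H24.Rk
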