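import Cfsg.Agent.Lib.Rk3F.R8
import Cfsg.Agent.Lib.Solv.Primitive
import Cfsg.Agent.Lib.Char.BurnsidePQ

/-! From a primitive group of rank 3 to the graph. -/

set_option autoImplicit false
set_option linter.unusedSectionVars false
set_option linter.style.haveILetI false

namespace H24.Rk

open MulAction

variable {G X : Type*} [Group G] [MulAction G X]

theorem prim_rel (hp : IsPreprimitive G X) {r : X → X → Prop} (hr : Equivalence r)
    (hi : ∀ (g : G) x y, r x y → r (g • x) (g • y)) {a b : X} (hab : a ≠ b) (h : r a b) (c : X) :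
    r a c := by
  have h1 : IsBlock G {y | r a y} := isBlock_iff_smul_eq_of_mem.2 fun g x hx hg => by
    have h2 : r a (g • a) := hr.trans hg (hi g _ _ (hr.symm hx))
    ext y
    rw [Set.mem_smul_set_iff_inv_smul_mem]
    exact ⟨fun e => hr.trans h2 (by simpa using hi g _ _ e), fun e =>
      by simpa using hi g⁻¹ _ _ (hr.trans (hr.symm h2) e)⟩
  rcases hp.isTrivialBlock_of_isBlock h1 with h2 | h2
  · exact absurd (h2 (hr.refl a) h) hab
  · exact h2.ge (Set.mem_univ c)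

theorem exists_reg [Finite G] [FaithfulSMul G X] (hp : IsPreprimitive G X) (a : X) (N : Subgroup G)
    [N.Normal] (h1 : N ≠ ⊥) (h2 : Group.IsSolvable N) : ∃ (M : Subgroup G) (p : ℕ), p.Prime ∧
      IsPGroup p M ∧ M.Normal ∧ Nat.card M = Nat.card X ∧ ∀ x y : X, ∃! n : M, (n : G) • x = y := by
  obtain ⟨M, p, h3, h4, h5, -, h6, -, h7, -⟩ := H1.exists_elementary_abelian_normal_le N h1 h2
  haveI := H21.isPretransitive_of_normal_of_ne_bot hp M h5
  have h8 : ∀ x y : X, ∃! n : M, (n : G) • x = y := fun x y => by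
    obtain ⟨n, hn⟩ := exists_smul_eq M x y
    refine ⟨n, hn, fun m hm => Subtype.ext (inv_mul_eq_one.1 (H21.eq_one_of_centralizes_of_smul_eq M
      (fun g hg => congrArg Subtype.val (h6.is_comm.comm ⟨g, hg⟩ (n⁻¹ * m))) (ω := x) ?_)).symm⟩
    rw [mul_smul, hm, inv_smul_eq_iff]
    exact hn.symm
  exact ⟨M, p, h3, h7, h4, Nat.card_eq_of_bijective (fun n : M => (n : G) • a)
    ((Function.bijective_iff_existsUnique _).2 (h8 a)), h8⟩

theorem r3_of [Finite G] [FaithfulSMul G X] (heven : Even (Nat.card G)) (hp : IsPreprimitive G X)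
    (A : X) (h3 : Nat.card (orbitRel.Quotient (stabilizer G A) X) = 3) (B : X) (hBA : B ≠ A)
    (hfix : ∃ g ∈ stabilizer G A, g ≠ 1 ∧ g • B = B)
    (hfrob : ∀ g ∈ stabilizer G A, ∀ h ∈ stabilizer G A, g • B = B → g • (h • B) = h • B →
      h • B ≠ B → g = 1) : R3 G fun x y => ∃ g : G, g • A = x ∧ g • B = y := by
  classical
  haveI := Fintype.ofFinite G
  set adj : X → X → Prop := fun x y => ∃ g : G, g • A = x ∧ g • B = y
  have inv : ∀ (g : G) x y, adj (g • x) (g • y) ↔ adj x y := fun g x y =>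
    ⟨fun ⟨w, h1, h2⟩ => ⟨g⁻¹ * w, by simp [mul_smul, h1], by simp [mul_smul, h2]⟩,
      fun ⟨w, h1, h2⟩ => ⟨g * w, by rw [mul_smul, h1], by rw [mul_smul, h2]⟩⟩
  have ninv : ∀ (g : G) x y, NA adj (g • x) (g • y) ↔ NA adj x y := fun g x y => by
    rw [NA, NA, inv, Ne, smul_left_cancel_iff]
  have irr : ∀ x, ¬ adj x x := fun x ⟨w, h1, h2⟩ => hBA (MulAction.injective w (h2.trans h1.symm))
  have hAB : adj A B := ⟨1, one_smul _ _, one_smul _ _⟩
  let q : X → orbitRel.Quotient (stabilizer G A) X := Quotient.mk''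
  have hq : ∀ x y, q x = q y ↔ ∃ g : G, g • A = A ∧ g • y = x := fun x y =>
    Quotient.eq''.trans ⟨fun ⟨g, hg⟩ => ⟨g, g.2, hg⟩, fun ⟨g, h1, h2⟩ => ⟨⟨g, h1⟩, h2⟩⟩
  have hq' : ∀ y, NA adj A y ↔ q y ≠ q A ∧ q y ≠ q B := fun y =>
    and_congr (not_congr ((hq y A).trans ⟨fun ⟨g, h1, h2⟩ => h1.symm.trans h2,
      fun e => ⟨1, one_smul _ _, (one_smul _ _).trans e⟩⟩).symm) (not_congr (hq y B).symm)
  have hBq : q B ≠ q A := fun e => by
    obtain ⟨g, h1, h2⟩ := (hq B A).1 e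
    exact hBA (h2.symm.trans h1)
  haveI := Nat.finite_of_card_ne_zero (h3.trans_ne three_ne_zero)
  haveI := Fintype.ofFinite (orbitRel.Quotient (stabilizer G A) X)
  rw [Nat.card_eq_fintype_card] at h3
  obtain ⟨C, hC⟩ : ∃ C, NA adj A C := by
    obtain ⟨ω, -, h1⟩ := Finset.exists_mem_notMem_of_card_lt_card (s := {q A, q B})
      (t := Finset.univ) (Finset.card_le_two.trans_lt (by rw [Finset.card_univ]; omega))
    obtain ⟨C, rfl⟩ := Quotient.exists_rep ω
    exact ⟨C, (hq' C).2 (by simpa using h1)⟩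
  have t2' : ∀ x y, NA adj x y → ∃ g : G, g • A = x ∧ g • C = y := fun x y hxy => by
    obtain ⟨w, rfl⟩ := exists_smul_eq G A x
    obtain ⟨y, rfl⟩ := MulAction.surjective w y
    have h1 := (hq' y).1 ((ninv w _ _).1 hxy)
    have h2 := (hq' C).1 hC
    have h4 : q y ∈ ({q A, q B, q C} : Finset _) := by
      rw [Finset.eq_univ_of_card _ ((Finset.card_eq_three.2
        ⟨_, _, _, hBq.symm, h2.1.symm, h2.2.symm, rfl⟩).trans h3.symm)]
      exact Finset.mem_univ _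
    obtain ⟨g, h5, h6⟩ := (hq y C).1 (by simpa [h1.1, h1.2] using h4)
    exact ⟨w * g, by rw [mul_smul, h5], by rw [mul_smul, h6]⟩
  have symm : ∀ x y, adj x y → adj y x := by
    obtain ⟨u, -, h1, h2⟩ := exists_inv (⊤ : Subgroup G) (by simpa using heven.two_dvd)
    obtain ⟨x, hx⟩ : ∃ x : X, u • x ≠ x := by
      by_contra hc
      push Not at hc
      exact h1 (eq_of_smul_eq_smul (α := X) fun x => (hc x).trans (one_smul _ _).symm)
    have h4 : u • u • x = x := by rw [← mul_smul, h2, one_smul]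
    rintro _ _ ⟨w, rfl, rfl⟩
    rw [inv]
    by_cases e : adj x (u • x)
    · obtain ⟨g, h5, h6⟩ := id e
      rwa [← inv u, h4, ← h6, ← h5, inv] at e
    · by_contra hc
      obtain ⟨g, h5, h6⟩ := t2' _ _ ⟨hx.symm, e⟩
      obtain ⟨g', h7, h8⟩ := t2' _ _ ⟨hBA, hc⟩
      have := (ninv u _ _).2 ⟨hx.symm, e⟩
      rw [h4, ← h6, ← h5, ninv, ← ninv g', h7, h8] at this
      exact this.2 hAB
  refine ⟨inv, symm, irr, ?_, fun x y x' y' h1 h2 => ?_, ?_, hfix.imp fun g hg =>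
    ⟨A, B, hAB, hg.2.1, hg.1, hg.2.2⟩, ?_, ?_⟩
  · rintro _ _ _ _ ⟨g, rfl, rfl⟩ ⟨g', rfl, rfl⟩
    exact ⟨g' * g⁻¹, by simp [mul_smul], by simp [mul_smul]⟩
  · obtain ⟨g, rfl, rfl⟩ := t2' x y h1
    obtain ⟨g', rfl, rfl⟩ := t2' x' y' h2
    exact ⟨g' * g⁻¹, by simp [mul_smul], by simp [mul_smul]⟩
  · rintro g _ _ _ ⟨w, rfl, rfl⟩ ⟨w', h1, rfl⟩ h2 h4 h5 h6
    have := hfrob (w⁻¹ * g * w) (by simp [mul_smul, h4]) (w⁻¹ * w') (by simp [mul_smul, h1])
      (by simp [mul_smul, h5]) (by simp [mul_smul, h6])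
      fun e => h2 (by rw [mul_smul, inv_smul_eq_iff] at e; exact e.symm)
    simpa [mul_assoc, inv_mul_eq_iff_eq_mul] using this
  · by_contra hc
    push Not at hc
    refine (prim_rel hp (r := fun x y => ¬ NA adj x y) ⟨fun x h => h.1 rfl,
      fun h h' => h ⟨h'.1.symm, fun e => h'.2 (symm _ _ e)⟩, fun {x y z} h1 h2 h4 => ?_⟩
      (fun g x y h => by rwa [ninv]) hBA.symm (fun h => h.2 hAB) C) hC
    by_cases e : x = y
    · exact h2 (e ▸ h4)
    by_cases e' : y = z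
    · exact h1 (e' ▸ h4)
    exact hc x y z (not_not.1 fun h => h1 ⟨e, h⟩) (not_not.1 fun h => h2 ⟨e', h⟩) h4
  · by_contra hc
    push Not at hc
    refine prim_rel hp (r := fun x y => ¬ adj x y) ⟨irr, fun h h' => h (symm _ _ h'),
      fun {x y z} h1 h2 h4 => ?_⟩ (fun g x y h => by rwa [inv]) hC.1 hC.2 B hAB
    by_cases e : y = x
    · exact h2 (e ▸ h4)
    by_cases e' : y = z
    · exact h1 (e' ▸ h4)
    exact hc y x z ⟨e, fun h => h1 (symm _ _ h)⟩ ⟨e', h2⟩ h4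

end H24.Rk
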